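import Groth.Agent.StModLib.QuotAff.Base
import Groth.Agent.FCov14.QuotSch
import Groth.Agent.FCov14.QuotDiagProp
import Groth.Agent.AlgStLib.QuasiCompact
import Groth.Agent.AlgStLib.RepDiag
import Groth.Agent.AlgStLib.DiagCover
import Groth.Agent.AlgSpDec.LimDescentRep
import Groth.Agent.QuotLib.AtlasProps

/-!
# The quotient stack over the invariants is quasi-compact and quasi-separated
-/

set_option autoImplicit false
set_option linter.style.haveILetI false
set_option backward.isDefEq.respectTransparency false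
set_option backward.isDefEq.respectTransparency.types false

universe u

open CategoryTheory CategoryTheory.Limits MonoidalCategory AlgebraicGeometry AlgSp
open Groth.Agent.AlgSpLib Groth.Agent.AlgSpPts Groth.Agent.AlgStLib Groth.Agent.AlgSpGrp Groth.Agent.FibBase

noncomputable section

namespace Groth.Agent.StModLib.QuotAff

variable {S : Scheme.{u}}

theorem qcqs_of_affine {U V : Over S} (v : U ⟶ V) [IsAffineHom v.left] : qcqs ((yon S).map v) :=
  have h : RepWith @IsAffineHom ((yon S).map v) := (repWith_yon_map_iff @IsAffineHom v).2 ‹_›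
  ⟨AlgSpPts.isQuasiCompactMor_of_repWith
      (repWith_mono (fun _ _ g (_ : IsAffineHom g) => (inferInstance : QuasiCompact g)) _ h),
    AlgSpDec.isQuasiSeparatedMor_of_isSeparatedMor (AlgSpDec.isSeparatedMor_of_repWith_affine h)⟩

theorem isQuasiSeparatedMor_of_mono {F F' : Sp S} (a : F ⟶ F') [Mono a] : IsQuasiSeparatedMor a := by
  show RepWith @QuasiCompact (pullback.diagonal a)
  exact repWith_of_isIso @QuasiCompact _

theorem qcqs_diag_of_affine (X : Over S) [IsAffineHom X.hom] : qcqs (Limits.diag ((yon S).obj X)) := by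
  obtain ⟨k, hk⟩ : ∃ k : X ⟶ Over.mk (𝟙 S), k.left = X.hom :=
    ⟨Over.homMk X.hom (Category.comp_id _), rfl⟩
  haveI : IsAffineHom k.left := hk ▸ ‹_›
  have h : qcqs ((yon S).map k) := qcqs_of_affine k
  rw [(isTerminalYon S).hom_ext ((yon S).map k) ((isTerminalYon S).from _)] at h
  haveI : Mono (Limits.diag ((yon S).obj X)) := ⟨fun a b e => by
    have := congrArg (· ≫ prod.fst) e
    simpa using this⟩
  exact ⟨AlgSpPts.isQuasiCompactMor_of_repWith ((repWith_diag_iff @QuasiCompact _).2 h.2),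
    isQuasiSeparatedMor_of_mono _⟩

theorem qcqs_hom {G : Over S} [GrpObj G] [IsAffineHom G.hom] : qcqs ((yonB S).obj G).hom := by
  obtain ⟨h, hh, e⟩ := FCov14.Compare.hom_left_eq (G := G)
  haveI : IsAffineHom h.left := e ▸ ‹_›
  rw [← hh]
  exact qcqs_of_affine h

theorem isQuasiSeparatedMor_toSelf_quotSt {G : Over S} [GrpObj G] [Flat G.hom]
    [LocallyOfFinitePresentation G.hom] [IsAffineHom G.hom] {X : Over S} [IsAffineHom X.hom]
    (aX : AlgGrp.Action G X) :
    AlgSt.IsQuasiSeparatedMor (FibCat.toSelf (AlgSt.QuotSt Scheme.fppfPrecoverage G aX)) :=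
  FCov14.Het.repByAlgSpWith_diag FCov14.Compare.functor_isEquivOver
    (FCov14.QuotDiag.repByAlgSpWith_diag (IsAlgSpace.yon_obj _) (IsAlgSpace.yon_obj G) (IsAlgSpace.yon_obj X)
      stableBC_qcqs stableComp_qcqs isLocalOnBase_qcqs qcqs_hom (qcqs_diag_of_affine X))

theorem repByAlgSpWith_diag_toSelf_ofSch (Y : Over S) :
    AlgSt.RepByAlgSpWith IsQuasiSeparatedMor (FibCat.diag (FibCat.toSelf (AlgSt.ofSch Y))) :=
  repByAlgSpWith_diag_of_repByAlgSp1 stableBC_isQuasiSeparatedMor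
    (repByAlgSp1_toSelf_of_repByAlgSp ⟨⟨(yon S).obj Y, IsAlgSpace.yon_obj Y⟩, BasedFunctor.id _, isEquivOver_id⟩)
    fun a _ _ _ _ _ => isQuasiSeparatedMor_of_mono _

variable {G : Over S} [GrpObj G] [Flat G.hom] [LocallyOfFinitePresentation G.hom]
  {X Y : Over S} {aX : AlgGrp.Action G X}

theorem isQuasiCompactMor_of_quotMap (h𝒳 : AlgSt.IsAlgStack Scheme.fppfPrecoverage
      (AlgSt.QuotSt Scheme.fppfPrecoverage G aX))
    (π : AlgSt.QuotSt Scheme.fppfPrecoverage G aX ⥤ᵇ AlgSt.ofSch Y) {v : X ⟶ Y} [IsAffineHom v.left]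
    (hπ : BasedFunctor.comp (AlgSt.quotMap Scheme.fppfPrecoverage G aX) π = AlgSt.ofSpMap ((yon S).map v)) :
    AlgSt.IsQuasiCompactMor Scheme.fppfPrecoverage π := by
  have hX : AlgSt.IsAlgStack Scheme.fppfPrecoverage (AlgSt.ofSch X) :=
    isAlgStack_ofSp ⟨(yon S).obj X, IsAlgSpace.yon_obj X⟩
  have hY : AlgSt.IsAlgStack Scheme.fppfPrecoverage (AlgSt.ofSch Y) :=
    isAlgStack_ofSp ⟨(yon S).obj Y, IsAlgSpace.yon_obj Y⟩
  have hsurj : AlgSt.IsSurjective (AlgSt.quotMap Scheme.fppfPrecoverage G aX) := fun z => by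
    obtain ⟨w, hw⟩ := isSurjective_ofChart_atlas h𝒳.isStack.1
      (QuotLib.quot_flat_lfp_surjective (G := G) (aX := aX)).2.2 z
    exact ⟨_, (pts_map_comp _ _ _).symm.trans hw⟩
  have hrep : AlgSt.RepByAlgSpWith IsQuasiCompactMor (AlgSt.ofSpMap ((yon S).map v)) :=
    repByAlgSpWith_ofSpMap stableBC_isQuasiCompactMor (IsAlgSpace.yon_obj X) (IsAlgSpace.yon_obj Y) _
      (qcqs_of_affine v).1
  exact isQuasiCompactMor_of_triangle hX h𝒳 hY (eqToIso hπ) hsurj
    ((repByAlgSpWith_isQuasiCompactMor_iff hX hY.isStack hY.diag (repByAlgSp1_of_repByAlgSpWith hrep)).1 hrep)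

theorem isQuasiSeparatedMor_of_quotSt [IsAffineHom G.hom] [IsAffineHom X.hom]
    (π : AlgSt.QuotSt Scheme.fppfPrecoverage G aX ⥤ᵇ AlgSt.ofSch Y) : AlgSt.IsQuasiSeparatedMor π :=
  repByAlgSpWith_diag_of_comp stableBC_qcqs cancels_qcqs (repByAlgSpWith_diag_toSelf_ofSch Y)
    (by rw [comp_toSelf]; exact isQuasiSeparatedMor_toSelf_quotSt aX)

end Groth.Agent.StModLib.QuotAff
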