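import Groth.Agent.StModLib.QuotAff.ChartInv

/-!
# Cohomological affineness over the invariants
-/

set_option autoImplicit false
set_option linter.style.haveILetI false
set_option linter.unusedSectionVars false
set_option backward.isDefEq.respectTransparency false
set_option backward.isDefEq.respectTransparency.types false

universe u

open CategoryTheory CategoryTheory.Limits AlgebraicGeometry
open scoped TensorProduct

noncomputable section

namespace Groth.Agent.StModLib.QuotAff

variable {R : Type u} [CommRing R] {A B : Type u} [CommRing A] [HopfAlgebra R A] [CommRing B] [Algebra R B]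
  [HopfRep.Comod R A B] [GLin.IsCoactAlg R A B]
  {π : St R A B ⥤ᵇ AlgSt.ofSch (CoactBr.sp R ↥(GLin.invariants R A B))}

theorem isCohAffine_of_exact
    (hρ : BasedFunctor.comp (AlgSt.quotMap Scheme.fppfPrecoverage (CoactBr.sp R A) (CoactBr.action R A B)) π =
      AlgSt.ofSpMap ((AlgSp.yon (Spec (CommRingCat.of R))).map (CoactBr.pt (GLin.invariants R A B).val)))
    (hp : FibCat.IsFibGrpd (St R A B).p)
    (H : ∀ (M N : Type u) [AddCommGroup M] [Module R M] [Module B M] [IsScalarTower R B M]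
        [HopfRep.Comod R A M] [TameAct.IsHopfMod R A B M]
        [AddCommGroup N] [Module R N] [Module B N] [IsScalarTower R B N]
        [HopfRep.Comod R A N] [TameAct.IsHopfMod R A B N] (f : M →ₗ[B] N),
        Hoch.IsComodHom A (f.restrictScalars R) → Function.Surjective f →
          ∀ n ∈ HopfRep.fixedPts R A N, ∃ m ∈ HopfRep.fixedPts R A M, f m = n) :
    StMod.IsCohAffine π := by
  intro F G a ha E hE
  obtain ⟨c⟩ := exists_chart hρ hE
  refine c.surjective_relSectMap F hp a fun n hn => ?_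
  obtain ⟨m, hm, hmn⟩ := H (HM F) (HM G) (hmap a) (isComodHom_hmap a) (hmap_surjective a ha) n hn
  exact ⟨m, hm, hmn⟩

theorem hres_one_tmul_of_fixed {M : Type u} [AddCommGroup M] [Module R M] [Module B M] [IsScalarTower R B M]
    [HopfRep.Comod R A M] [TameAct.IsHopfMod R A B M] {m : M}
    (hm : HopfRep.Comod.coact (k := R) (A := A) m = m ⊗ₜ[R] (1 : A)) {p q : Pt R B}
    (h : (obj q : (St R A B).obj) ⟶ obj p) :
    hres M h ((1 : p.K) ⊗ₜ[B] m) = (1 : q.K) ⊗ₜ[B] m := by
  rw [hres, resMap_tmul, map_one, one_smul, psi, hm, twist_tmul]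
  exact congrArg (· ⊗ₜ[B] m) (map_one (gam h))

section Maps

variable {M N : Type u} [AddCommGroup M] [Module R M] [Module B M] [IsScalarTower R B M]
  [HopfRep.Comod R A M] [TameAct.IsHopfMod R A B M]
  [AddCommGroup N] [Module R N] [Module B N] [IsScalarTower R B N]
  [HopfRep.Comod R A N] [TameAct.IsHopfMod R A B N] {f : M →ₗ[B] N}

theorem psi_map (hf : Hoch.IsComodHom A (f.restrictScalars R)) {K : Type u} [CommRing K] [Algebra R K]
    [Algebra B K] [IsScalarTower R B K] (g : A →ₐ[R] K) (m : M) :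
    psi (B := B) g (f m) = f.lTensor K (psi (B := B) g m) := by
  rw [psi, psi, show HopfRep.Comod.coact (k := R) (A := A) (f m) =
    (f.restrictScalars R).rTensor A (HopfRep.Comod.coact (k := R) (A := A) m) from LinearMap.congr_fun hf m]
  induction HopfRep.Comod.coact (k := R) (A := A) m using TensorProduct.induction_on with
  | zero => simp
  | add s t hs ht => simp only [map_add, hs, ht]
  | tmul v b => simp

theorem smul_lTensor {K : Type u} [CommRing K] [Algebra B K] (k : K) (x : K ⊗[B] M) :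
    k • f.lTensor K x = f.lTensor K (k • x) := by
  induction x using TensorProduct.induction_on with
  | zero => simp
  | add s t hs ht => simp only [map_add, smul_add, hs, ht]
  | tmul l v => rw [TensorProduct.smul_tmul', LinearMap.lTensor_tmul, LinearMap.lTensor_tmul,
      TensorProduct.smul_tmul']

theorem hres_map (hf : Hoch.IsComodHom A (f.restrictScalars R)) {p q : Pt R B}
    (h : (obj q : (St R A B).obj) ⟶ obj p) (x : p.K ⊗[B] M) :
    hres N h (f.lTensor p.K x) = f.lTensor q.K (hres M h x) := by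
  induction x using TensorProduct.induction_on with
  | zero => simp
  | add s t hs ht => simp only [map_add, hs, ht]
  | tmul k m => rw [LinearMap.lTensor_tmul, hres, hres, resMap_tmul, resMap_tmul, psi_map hf, smul_lTensor]

/-- The morphism of modules of a map of relative Hopf modules. -/
theorem exists_hom_hopf (hp : FibCat.IsFibGrpd (St R A B).p) (hf : Hoch.IsComodHom A (f.restrictScalars R))
    (FM FN : StMod.QCoh (St R A B))
    (θM : ∀ p, Γ(FM.obj.obj (obj p), ⊤) →+ p.K ⊗[B] M) (θN : ∀ p, Γ(FN.obj.obj (obj p), ⊤) →+ p.K ⊗[B] N)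
    (hbN : ∀ p, Function.Bijective (θN p))
    (hlM : ∀ p (k : p.K) (x : Γ(FM.obj.obj (obj p), ⊤)), θM p (fE (A := A) p k • x) = k • θM p x)
    (hlN : ∀ p (k : p.K) (x : Γ(FN.obj.obj (obj p), ⊤)), θN p (fE (A := A) p k • x) = k • θN p x)
    (hnM : ∀ {q p : Pt R B} (h : (obj q : (St R A B).obj) ⟶ obj p) (x : Γ(FM.obj.obj (obj p), ⊤)),
      θM q (FM.obj.mapTop h x) = hres M h (θM p x))
    (hnN : ∀ {q p : Pt R B} (h : (obj q : (St R A B).obj) ⟶ obj p) (x : Γ(FN.obj.obj (obj p), ⊤)),
      θN q (FN.obj.mapTop h x) = hres N h (θN p x)) :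
    ∃ a : FM.obj ⟶ FN.obj, ∀ p x, θN p ((a.app (obj p)).app ⊤ x) = f.lTensor p.K (θM p x) := by
  let eN := fun p : Pt R B => AddEquiv.ofBijective (θN p) (hbN p)
  let mm := fun p : Pt R B => ((eN p).symm.toAddMonoidHom).comp ((f.lTensor p.K).toAddMonoidHom.comp (θM p))
  have hmm : ∀ p x, θN p (mm p x) = f.lTensor p.K (θM p x) := fun p x => (eN p).apply_symm_apply _
  obtain ⟨a, ha⟩ := exists_hom_of_denseAff hp (isDense (R := R) (A := A) (B := B) hp) isStableAff
    (G := FM.obj) FN.property mm (fun p r x => by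
      obtain ⟨k, rfl⟩ := (fE (A := A) p).surjective r
      exact (hbN p).1 (by rw [hmm, hlM, hlN, hmm, smul_lTensor]))
    (fun {q p} h x => (hbN q).1 (by rw [hnN, hmm, hmm, hnM, hres_map hf]))
  exact ⟨a, fun p x => by rw [ha, hmm]⟩

theorem coact_eq_of_hres_eq {m : M}
    (e : hres M (actMor (R := R) (A := A) (B := B)) ((1 : (upt : Pt R B).K) ⊗ₜ[B] m) =
      hres M (toU (A := A) (wpt A)) ((1 : (upt : Pt R B).K) ⊗ₜ[B] m)) :
    HopfRep.Comod.coact (k := R) (A := A) m = m ⊗ₜ[R] (1 : A) := by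
  have h1 : ∀ {q : Pt R B} (h : (obj q : (St R A B).obj) ⟶ obj upt),
      hres M h ((1 : (upt : Pt R B).K) ⊗ₜ[B] m) = psi (B := B) (gam h) m := fun {q} h => by
    refine (resMap_tmul _ _ _ _ _).trans ?_
    exact (congrArg (fun k : q.K => k • psi (B := B) (gam h) m) (map_one (rho h))).trans (one_smul q.K _)
  rw [h1, h1, gam_actMor, gam_toU] at e
  have h2 : psi (B := B) (one (wpt (R := R) (B := B) A).K : A →ₐ[R] (wpt (R := R) (B := B) A).K) m =
      (1 : (wpt (R := R) (B := B) A).K) ⊗ₜ[B] m := psi_one m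
  refine (bijective_twist_includeRight (R := R) (B := B) M A).1 ((e.trans h2).trans ?_)
  rw [twist_tmul, AlgHom.toLinearMap_apply, map_one]

end Maps

theorem exact_of_isCohAffine
    (hρ : BasedFunctor.comp (AlgSt.quotMap Scheme.fppfPrecoverage (CoactBr.sp R A) (CoactBr.action R A B)) π =
      AlgSt.ofSpMap ((AlgSp.yon (Spec (CommRingCat.of R))).map (CoactBr.pt (GLin.invariants R A B).val)))
    (hp : FibCat.IsFibGrpd (St R A B).p) (hco : StMod.IsCohAffine π)
    (M N : Type u) [AddCommGroup M] [Module R M] [Module B M] [IsScalarTower R B M]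
    [HopfRep.Comod R A M] [TameAct.IsHopfMod R A B M]
    [AddCommGroup N] [Module R N] [Module B N] [IsScalarTower R B N]
    [HopfRep.Comod R A N] [TameAct.IsHopfMod R A B N] (f : M →ₗ[B] N)
    (hf : Hoch.IsComodHom A (f.restrictScalars R)) (hs : Function.Surjective f) :
    ∀ n ∈ HopfRep.fixedPts R A N, ∃ m ∈ HopfRep.fixedPts R A M, f m = n := by
  intro n hn
  have hn' : HopfRep.Comod.coact (k := R) (A := A) n = n ⊗ₜ[R] (1 : A) := hn
  obtain ⟨FM, θM, hbM, hlM, hnM⟩ := exists_qcoh M hp
  obtain ⟨FN, θN, hbN, hlN, hnN⟩ := exists_qcoh N hp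
  let eN := fun p : Pt R B => AddEquiv.ofBijective (θN p) (hbN p)
  obtain ⟨a, ha⟩ := exists_hom_hopf hp hf FM FN θM θN hbN hlM hlN hnM hnN
  let a' : FM ⟶ FN := ObjectProperty.homMk a
  have hsurj : StMod.Mod.IsSurj a'.hom := isSurj_of_denseAff hp (isDense hp) isStableAff a fun p y => by
    obtain ⟨z, hz⟩ := LinearMap.lTensor_surjective p.K hs (θN p y)
    obtain ⟨x, rfl⟩ := (hbM p).2 z
    exact ⟨x, (hbN p).1 ((ha p x).trans hz)⟩
  obtain ⟨g, hg⟩ := exists_globSect_of_denseAff hp (isDense (R := R) (A := A) (B := B) hp) isStableAff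
    FN.property (fun p => (eN p).symm ((1 : p.K) ⊗ₜ[B] n)) fun {q p} h => (hbN q).1 (by
      rw [hnN, show θN p ((eN p).symm _) = _ from (eN p).apply_symm_apply _,
        show θN q ((eN q).symm _) = _ from (eN q).apply_symm_apply _, hres_one_tmul_of_fixed hn'])
  let Y : Over (Spec (CommRingCat.of R)) := CoactBr.sp R ↥(GLin.invariants R A B)
  let E : AlgSp.EtOver ((AlgSp.yon (Spec (CommRingCat.of R))).obj Y) :=
    AlgSp.EtOver.mk ((AlgSp.yon (Spec (CommRingCat.of R))).map (𝟙 Y))
      ((AlgSp.repWith_yon_map_iff @Etale (𝟙 Y)).2 (inferInstanceAs (Etale (𝟙 Y.left))))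
  have hE : eMor E = 𝟙 Y := by
    refine (AlgSp.yon (Spec (CommRingCat.of R))).map_injective ?_
    rw [map_eMor]
    rfl
  obtain ⟨α, hα⟩ := exists_alpha (π := π) (E := E) (ξ := obj (upt : Pt R B))
    (CoactBr.pt ((upt : Pt R B).x.comp (GLin.invariants R A B).val)) (by
      rw [hE, secP_obj hρ]
      exact Category.comp_id _)
  obtain ⟨s, hs'⟩ := hco a' hsurj E (inferInstanceAs (IsAffine (Spec (CommRingCat.of ↥(GLin.invariants R A B)))))
    (relOfGlob π g _)
  let x := θM upt (s.1 (obj upt) α)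
  let ι := TensorProduct.lid B M
  let m : M := ι (show B ⊗[B] M from x)
  have hx : x = (1 : (upt : Pt R B).K) ⊗ₜ[B] m := by
    show (show B ⊗[B] M from x) = (1 : B) ⊗ₜ[B] m
    exact (ι.symm_apply_apply _).symm
  have hfm : f m = n := by
    have e : θN upt ((a.app (obj (upt : Pt R B))).app ⊤ (s.1 (obj upt) α)) =
        (1 : (upt : Pt R B).K) ⊗ₜ[B] n := by
      have e₁ := congrArg (fun v : StMod.Mod.RelSect π FN.obj _ => θN upt (v.1 (obj upt) α)) hs'
      refine e₁.trans ?_
      show θN upt (g.1 (obj upt)) = _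
      rw [hg]
      exact (eN upt).apply_symm_apply _
    rw [ha, show θM upt (s.1 (obj upt) α) = _ from hx, LinearMap.lTensor_tmul] at e
    have := congrArg (fun z : (upt : Pt R B).K ⊗[B] N => TensorProduct.lid B N (show B ⊗[B] N from z)) e
    exact ((one_smul B (f m)).symm.trans ((TensorProduct.lid_tmul _ _).symm.trans this)).trans
      ((TensorProduct.lid_tmul _ _).trans (one_smul B n))
  refine ⟨m, ?_, hfm⟩
  show HopfRep.Comod.coact (k := R) (A := A) m = m ⊗ₜ[R] (1 : A)
  have hαeq : π.map (actMor (R := R) (A := A) (B := B)) ≫ α = π.map (toU (wpt A)) ≫ α := by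
    refine alpha_ext ?_
    rw [← StMod.map_comp_baseOver, ← StMod.map_comp_baseOver, hα]
    show (actMor (R := R) (A := A) (B := B)).base ≫ CoactBr.pt _ = (toU (A := A) (wpt A)).base ≫ CoactBr.pt _
    rw [← pt_algOf (actMor (R := R) (A := A) (B := B)).base, ← pt_algOf (toU (A := A) (wpt A)).base,
      ← CoactBr.pt_comp, ← CoactBr.pt_comp]
    refine congrArg CoactBr.pt (AlgHom.ext fun z => ?_)
    show rho (actMor (R := R) (A := A) (B := B)) _ = rho (toU (A := A) (wpt A)) _
    rw [rho_actMor, rho_toU]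
    exact coactAlgHom_invariant z
  have e : hres M (actMor (R := R) (A := A) (B := B)) x = hres M (toU (A := A) (wpt A)) x := by
    rw [← hnM, ← hnM, s.2, s.2, hαeq]
  rw [hx] at e
  exact coact_eq_of_hres_eq e

end Groth.Agent.StModLib.QuotAff
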