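import Groth.Agent.StModLib.QuotAff.ChartInv
import Groth.Agent.StModLib.UnitIso

/-!
# Functions on an etale scheme over the invariants
-/

set_option autoImplicit false
set_option linter.style.haveILetI false
set_option linter.unusedSectionVars false
set_option backward.isDefEq.respectTransparency false
set_option backward.isDefEq.respectTransparency.types false

universe u

open CategoryTheory CategoryTheory.Limits AlgebraicGeometry
open scoped TensorProduct

noncomputable section

namespace Groth.Agent.StModLib.QuotAff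

variable {R : Type u} [CommRing R] {A B : Type u} [CommRing A] [HopfAlgebra R A] [CommRing B] [Algebra R B]
  [HopfRep.Comod R A B] [GLin.IsCoactAlg R A B]
  {π : St R A B ⥤ᵇ AlgSt.ofSch (CoactBr.sp R ↥(GLin.invariants R A B))}
  {E : AlgSp.EtOver ((AlgSp.yon (Spec (CommRingCat.of R))).obj (CoactBr.sp R ↥(GLin.invariants R A B)))}

/-- The unit as an element of the tautological module. -/
def oneHM : HM (StMod.OQ (St R A B)) :=
  (1 : Γ(StMod.sch (St R A B) (obj (upt : Pt R B)), ⊤))

theorem sres_ofHM_one {p : Pt R B} (h : (obj p : (St R A B).obj) ⟶ obj upt) :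
    sres (StMod.OQ (St R A B)) h (ofHM (StMod.OQ (St R A B)) (oneHM (R := R) (A := A) (B := B))) =
      toSec (StMod.OQ (St R A B)) p (1 : Γ(StMod.sch (St R A B) (obj p), ⊤)) :=
  map_one (StMod.bmap (St R A B) h).appTop.hom

theorem coact_oneHM : HopfRep.Comod.coact (k := R) (A := A) (oneHM (R := R) (A := A) (B := B)) =
    oneHM (R := R) (A := A) (B := B) ⊗ₜ[R] (1 : A) :=
  coact_eq_of_sres _ (by rw [sres_ofHM_one, sres_ofHM_one])

theorem bijective_smul_oneHM : Function.Bijective fun b : B => b • oneHM (R := R) (A := A) (B := B) := by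
  have e : ∀ b : B, b • oneHM (R := R) (A := A) (B := B) =
      (show HM (StMod.OQ (St R A B)) from fE (A := A) (upt : Pt R B) (id b)) := fun b =>
    mul_one (fE (A := A) (upt : Pt R B) (id b))
  refine ⟨fun b b' h => ?_, fun n => ?_⟩
  · exact (fE (A := A) (upt : Pt R B)).injective ((e b).symm.trans (h.trans (e b')))
  · obtain ⟨b, hb⟩ := (fE (A := A) (upt : Pt R B)).surjective (show Γ(StMod.sch (St R A B) (obj upt), ⊤) from n)
    exact ⟨b, (e b).trans hb⟩

theorem exists_invariant_of_fixed {n : HM (StMod.OQ (St R A B))}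
    (hn : HopfRep.Comod.coact (k := R) (A := A) n = n ⊗ₜ[R] (1 : A)) :
    ∃ z : ↥(GLin.invariants R A B), n = z • oneHM (R := R) (A := A) (B := B) := by
  obtain ⟨b, rfl⟩ := bijective_smul_oneHM.2 n
  let L : B ≃ₗ[R] HM (StMod.OQ (St R A B)) := LinearEquiv.ofBijective
    ({ toFun := fun b => b • oneHM (R := R) (A := A) (B := B)
       map_add' := fun x y => add_smul x y _
       map_smul' := fun r x => smul_assoc r x _ } : B →ₗ[R] _) bijective_smul_oneHM
  have key : ∀ t : B ⊗[R] A,
      TameAct.hmSMul R A B _ t (oneHM (R := R) (A := A) (B := B) ⊗ₜ[R] (1 : A)) =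
        L.toLinearMap.rTensor A t := fun t => by
    induction t using TensorProduct.induction_on with
    | zero => simp
    | add x y hx hy => rw [map_add, LinearMap.add_apply, map_add, hx, hy]
    | tmul x a => rw [TameAct.hmSMul_tmul, mul_one, LinearMap.rTensor_tmul]; rfl
  have e : L.toLinearMap.rTensor A (HopfRep.Comod.coact (k := R) (A := A) b) =
      L.toLinearMap.rTensor A (b ⊗ₜ[R] (1 : A)) := by
    rw [← key, ← coact_oneHM, ← TameAct.IsHopfMod.coact_smul, LinearMap.rTensor_tmul]
    exact hn
  have key2 : ∀ t : B ⊗[R] A, L.symm.toLinearMap.rTensor A (L.toLinearMap.rTensor A t) = t := fun t => by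
    rw [← LinearMap.comp_apply, ← LinearMap.rTensor_comp, L.symm_comp, LinearMap.rTensor_id, LinearMap.id_apply]
  have e' := (key2 _).symm.trans ((congrArg (L.symm.toLinearMap.rTensor A) e).trans (key2 _))
  exact ⟨⟨b, e'⟩, rfl⟩

namespace Chart

variable (c : Chart π E)

theorem fn_add (k l : c.K) : c.fn (k + l) = c.fn k + c.fn l := by
  rw [fn, map_add, map_add]; rfl

theorem fn_surjective : Function.Surjective c.fn := fun r => by
  obtain ⟨k, hk⟩ := (gE (R := R) c.K).surjective (c.e.hom.left.appTop r)
  refine ⟨k, ?_⟩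
  rw [fn, hk]
  exact congr($(congrArg (fun q : E.obj.left ⟶ E.obj.left => q.left.appTop) c.e.inv_hom_id) r)

theorem inr_injective : Function.Injective c.inr := by
  intro k k' h
  let l := Algebra.linearMap ↥(GLin.invariants R A B) B
  have hl : Function.Injective (l.rTensor c.K) :=
    Module.Flat.rTensor_preserves_injective_linearMap l Subtype.val_injective
  refine (TensorProduct.lid ↥(GLin.invariants R A B) c.K).symm.injective (hl ?_)
  rw [TensorProduct.lid_symm_apply, TensorProduct.lid_symm_apply, LinearMap.rTensor_tmul, LinearMap.rTensor_tmul,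
    show l 1 = (1 : B) from rfl]
  exact h

theorem ev_unitSect (k : c.K) :
    c.ev (StMod.OQ (St R A B)) (StMod.unitSect π (StMod.etaOf E) (c.fn k)) =
      c.inr k • sres (StMod.OQ (St R A B)) (toU c.pt) (ofHM (StMod.OQ (St R A B)) (oneHM (R := R) (A := A) (B := B))) := by
  rw [sres_ofHM_one]
  show (StMod.baseOver π (obj c.pt) c.alpha).left.appTop (c.fn k) =
    fE (A := A) c.pt (c.inr k) * (1 : Γ(StMod.sch (St R A B) (obj c.pt), ⊤))
  rw [c.fn_alpha, mul_one]

include c in
theorem bijective_unitSect (hp : FibCat.IsFibGrpd (St R A B).p) :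
    Function.Bijective (StMod.unitSect π (StMod.etaOf E)) := by
  refine ⟨fun r r' h => ?_, fun v => ?_⟩
  · obtain ⟨k, rfl⟩ := c.fn_surjective r
    obtain ⟨k', rfl⟩ := c.fn_surjective r'
    refine congrArg c.fn (c.inr_injective ((fE (A := A) c.pt).injective ?_))
    have e := congrArg (fun q : StMod.Mod.RelSect π (StMod.O (St R A B)) _ => q.1 (obj c.pt) c.alpha) h
    exact (c.fn_alpha k).symm.trans (e.trans (c.fn_alpha k'))
  · obtain ⟨y, hy⟩ := c.exists_fixed_of_ev (StMod.OQ (St R A B)) v
    have key : ∀ y, ∃ k, c.inr k • sres (StMod.OQ (St R A B)) (toU c.pt) (ofHM (StMod.OQ (St R A B)) (oneHM (R := R) (A := A) (B := B))) =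
        c.kap (StMod.OQ (St R A B)) ((LinearMap.ker (delta (R := R) (A := A) (B := B)
          (HM (StMod.OQ (St R A B))))).subtype.lTensor c.K y) := fun y => by
      induction y using TensorProduct.induction_on with
      | zero => exact ⟨0, by simp⟩
      | add s t hs ht =>
        obtain ⟨k, hk⟩ := hs
        obtain ⟨l, hl⟩ := ht
        exact ⟨k + l, by rw [map_add, map_add, map_add, add_smul, hk, hl]⟩
      | tmul k n =>
        obtain ⟨z, hz⟩ := exists_invariant_of_fixed ((mem_ker_delta (A := A) (B := B) _ n.1).1 n.2)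
        refine ⟨z • k, ?_⟩
        rw [LinearMap.lTensor_tmul, Submodule.subtype_apply, hz, ← TensorProduct.smul_tmul, kap_tmul]
    obtain ⟨k, hk⟩ := key y
    exact ⟨c.fn k, c.ev_injective (StMod.OQ (St R A B)) hp ((c.ev_unitSect k).trans (hk.trans hy.symm))⟩

end Chart

end Groth.Agent.StModLib.QuotAff
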