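import Groth.Agent.StModLib.DenseAff
import Groth.Agent.QuotLib.TrivHom
import Groth.Prelude.Def_CoactBr
import Groth.Prelude.Def_AlgSt5

/-!
# Ring-valued points of the quotient stack of an affine scheme by an affine group
-/

set_option autoImplicit false
set_option linter.style.haveILetI false
set_option linter.unusedSectionVars false
set_option backward.isDefEq.respectTransparency false
set_option backward.isDefEq.respectTransparency.types false

universe u

open CategoryTheory CategoryTheory.Limits MonoidalCategory CartesianMonoidalCategory MonObj AlgebraicGeometry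
open scoped TensorProduct

noncomputable section

namespace Groth.Agent.StModLib.QuotAff

open Groth.Agent.QuotLib

section AlgOf

variable {R : Type u} [CommRing R] {K K' K'' : Type u} [CommRing K] [Algebra R K] [CommRing K'] [Algebra R K']
  [CommRing K''] [Algebra R K'']

theorem exists_pt_eq (b : CoactBr.sp R K' ⟶ CoactBr.sp R K) : ∃ φ : K →ₐ[R] K', CoactBr.pt φ = b := by
  let ψ := Spec.preimage b.left
  have hψ : Spec.map ψ = b.left := Spec.map_preimage _
  have hcomp : CommRingCat.ofHom (algebraMap R K) ≫ ψ = CommRingCat.ofHom (algebraMap R K') := by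
    apply Spec.map_injective
    rw [Spec.map_comp, hψ]
    exact Over.w b
  exact ⟨{ ψ.hom with commutes' := fun r => congr($(hcomp).hom r) }, Over.OverMorphism.ext hψ⟩

/-- The map of algebras under a morphism of spectra. -/
def algOf (b : CoactBr.sp R K' ⟶ CoactBr.sp R K) : K →ₐ[R] K' := (exists_pt_eq b).choose

theorem pt_algOf (b : CoactBr.sp R K' ⟶ CoactBr.sp R K) : CoactBr.pt (algOf b) = b := (exists_pt_eq b).choose_spec

theorem algOf_pt (φ : K →ₐ[R] K') : algOf (CoactBr.pt φ) = φ := CoactBr.pt_injective (pt_algOf _)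

theorem algOf_comp (a : CoactBr.sp R K'' ⟶ CoactBr.sp R K') (b : CoactBr.sp R K' ⟶ CoactBr.sp R K) :
    algOf (a ≫ b) = (algOf a).comp (algOf b) :=
  CoactBr.pt_injective (by rw [pt_algOf, CoactBr.pt_comp, pt_algOf, pt_algOf])

theorem algOf_id : algOf (𝟙 (CoactBr.sp R K)) = AlgHom.id R K := by rw [← CoactBr.pt_id, algOf_pt]

/-- Global functions on a spectrum. -/
def gE (K : Type u) [CommRing K] [Algebra R K] : K ≃+* Γ((CoactBr.sp R K).left, ⊤) :=
  (Scheme.ΓSpecIso (CommRingCat.of K)).symm.commRingCatIsoToRingEquiv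

theorem appTop_gE (b : CoactBr.sp R K' ⟶ CoactBr.sp R K) (k : K) :
    b.left.appTop (gE (R := R) K k) = gE (R := R) K' (algOf b k) := by
  conv_lhs => rw [← pt_algOf b]
  exact congr($((Scheme.ΓSpecIso_inv_naturality (CommRingCat.ofHom (algOf b).toRingHom)).symm).hom k)

end AlgOf

variable (R : Type u) [CommRing R] (A B : Type u) [CommRing A] [HopfAlgebra R A] [CommRing B] [Algebra R B]
  [HopfRep.Comod R A B] [GLin.IsCoactAlg R A B]

/-- The quotient stack of an affine scheme by an affine group. -/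
abbrev St : AlgSt.Cat (Spec (CommRingCat.of R)) :=
  AlgSt.QuotSt Scheme.fppfPrecoverage (CoactBr.sp R A) (CoactBr.action R A B)

/-- A ring-valued point of `Spec B`. -/
structure Pt : Type (u + 1) where
  /-- the ring -/
  K : Type u
  [ring : CommRing K]
  [alg : Algebra R K]
  /-- the point -/
  x : B →ₐ[R] K

attribute [instance] Pt.ring Pt.alg

variable {R A B}

/-- The object of the quotient stack under a point. -/
abbrev obj (p : Pt R B) : (St R A B).obj :=
  triv Scheme.fppfPrecoverage (CoactBr.sp R A) (CoactBr.action R A B) (CoactBr.pt p.x)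

theorem isAffine_obj (p : Pt R B) : IsAffine (StMod.sch (St R A B) (obj p)) :=
  inferInstanceAs (IsAffine (Spec (CommRingCat.of p.K)))

/-- The functions on the object of a point. -/
def fE (p : Pt R B) : p.K ≃+* Γ(StMod.sch (St R A B) (obj p), ⊤) := gE (R := R) p.K

/-- The point moved by a point of the group. -/
def move {K : Type u} [CommRing K] [Algebra R K] (x : B →ₐ[R] K) (g : A →ₐ[R] K) : B →ₐ[R] K :=
  (Algebra.TensorProduct.lift x g fun _ _ => .all _ _).comp (GLin.coactAlgHom R A B)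

/-- The product of two points of the group. -/
def conv {K : Type u} [CommRing K] [Algebra R K] (g h : A →ₐ[R] K) : A →ₐ[R] K :=
  (Algebra.TensorProduct.lift g h fun _ _ => .all _ _).comp (Bialgebra.comulAlgHom R A)

/-- The unit point of the group. -/
def one (K : Type u) [CommRing K] [Algebra R K] : A →ₐ[R] K :=
  (Algebra.ofId R K).comp (Bialgebra.counitAlgHom R A)

variable {p q r : Pt R B}

/-- The map of rings under a morphism. -/
def rho (h : (obj q : (St R A B).obj) ⟶ obj p) : p.K →ₐ[R] q.K := algOf h.base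

/-- The group point of a morphism. -/
def gam (h : (obj q : (St R A B).obj) ⟶ obj p) : A →ₐ[R] q.K :=
  algOf (sec (CoactBr.sp R A) (CoactBr.sp R q.K) ≫ h.top ≫ fst _ _)

theorem bmap_fE (h : (obj q : (St R A B).obj) ⟶ obj p) (k : p.K) :
    (StMod.bmap (St R A B) h).appTop (fE p k) = fE q (rho h k) :=
  appTop_gE h.base k

theorem sec_lift {T T' : Over (Spec (CommRingCat.of R))} (g : T ⟶ CoactBr.sp R A) (f : T ⟶ T') :
    sec (CoactBr.sp R A) T ≫ lift (fst _ T * (snd _ T ≫ g)) (snd _ T ≫ f) = lift g f := by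
  rw [comp_lift, comp_mul]
  simp only [sec, lift_fst, lift_snd_assoc, Category.id_comp, _root_.one_mul]

theorem sec_fst {T T' : Over (Spec (CommRingCat.of R))} (g : T ⟶ CoactBr.sp R A) (f : T ⟶ T')
    {t : CoactBr.sp R A ⊗ T ⟶ CoactBr.sp R A ⊗ T'} (ht : t = lift (fst _ T * (snd _ T ≫ g)) (snd _ T ≫ f)) :
    sec (CoactBr.sp R A) T ≫ t ≫ fst _ _ = g := by
  rw [ht, reassoc_of% sec_lift g f, lift_fst]

theorem sec_fst_comp {T T' T'' : Over (Spec (CommRingCat.of R))} (g : T ⟶ CoactBr.sp R A) (f : T ⟶ T')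
    (g' : T' ⟶ CoactBr.sp R A) (f' : T' ⟶ T'')
    {t : CoactBr.sp R A ⊗ T ⟶ CoactBr.sp R A ⊗ T'} {t' : CoactBr.sp R A ⊗ T' ⟶ CoactBr.sp R A ⊗ T''}
    (ht : t = lift (fst _ T * (snd _ T ≫ g)) (snd _ T ≫ f))
    (ht' : t' = lift (fst _ T' * (snd _ T' ≫ g')) (snd _ T' ≫ f')) :
    sec (CoactBr.sp R A) T ≫ (t ≫ t') ≫ fst _ _ = g * (f ≫ g') := by
  rw [ht, ht', Category.assoc, lift_fst, reassoc_of% sec_lift g f, comp_mul, lift_fst, lift_snd_assoc]

theorem top_eq_lift (h : (obj q : (St R A B).obj) ⟶ obj p) :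
    h.top = lift (fst _ _ * (snd _ _ ≫ CoactBr.pt (gam h))) (snd _ _ ≫ h.base) := by
  obtain ⟨g, -, hg⟩ := (hom_triv_iff h.base (CoactBr.pt q.x) (CoactBr.pt p.x)).1 h rfl
  have e : CoactBr.pt (gam h) = g := (pt_algOf _).trans (sec_fst g h.base hg)
  rw [e]
  exact hg

theorem rho_comp_x (h : (obj q : (St R A B).obj) ⟶ obj p) : (rho h).comp p.x = move q.x (gam h) := by
  obtain ⟨g, hg1, hg2⟩ := (hom_triv_iff h.base (CoactBr.pt q.x) (CoactBr.pt p.x)).1 h rfl
  have e : CoactBr.pt (gam h) = g := (pt_algOf _).trans (sec_fst g h.base hg2)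
  refine CoactBr.pt_injective ?_
  rw [move, ← CoactBr.lift_pt_ract, CoactBr.pt_comp, rho, pt_algOf]
  rw [CoactBr.lift_action_act] at hg1
  rw [e, ← hg1, CoactBr.lift_ract_ract, inv_mul_cancel, CoactBr.lift_one_ract]

theorem exists_hom (f : p.K →ₐ[R] q.K) (g : A →ₐ[R] q.K) (w : f.comp p.x = move q.x g) :
    ∃ h : (obj q : (St R A B).obj) ⟶ obj p, rho h = f ∧ gam h = g := by
  obtain ⟨h, hb, ht⟩ := (hom_triv_iff (K := Scheme.fppfPrecoverage) (G := CoactBr.sp R A)
    (aX := CoactBr.action R A B) (CoactBr.pt f) (CoactBr.pt q.x) (CoactBr.pt p.x)).2 (CoactBr.pt g) (by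
      rw [CoactBr.lift_action_act, ← CoactBr.pt_comp, w, move, ← CoactBr.lift_pt_ract, CoactBr.lift_ract_ract,
        mul_inv_cancel, CoactBr.lift_one_ract])
  refine ⟨h, by rw [rho, hb, algOf_pt], ?_⟩
  exact (congrArg algOf (sec_fst _ _ ht)).trans (algOf_pt g)

theorem hom_ext {h h' : (obj q : (St R A B).obj) ⟶ obj p} (hr : rho h = rho h') (hg : gam h = gam h') : h = h' := by
  have hb : h.base = h'.base := by rw [← pt_algOf h.base, ← pt_algOf h'.base]; exact congrArg CoactBr.pt hr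
  exact AlgSt.QuotObj.hom_ext hb (by rw [top_eq_lift h, top_eq_lift h', hg, hb])

theorem rho_id (p : Pt R B) : rho (𝟙 (obj (A := A) p)) = AlgHom.id R p.K := algOf_id

theorem rho_comp (ψ : (obj r : (St R A B).obj) ⟶ obj q) (φ : (obj q : (St R A B).obj) ⟶ obj p) :
    rho (ψ ≫ φ) = (rho ψ).comp (rho φ) :=
  algOf_comp ψ.base φ.base

theorem gam_id (p : Pt R B) : gam (𝟙 (obj (A := A) p)) = one p.K := by
  refine CoactBr.pt_injective ?_
  rw [gam, pt_algOf, one, ← CoactBr.one_eq_pt]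
  show sec _ _ ≫ 𝟙 _ ≫ fst _ _ = 1
  rw [Category.id_comp, sec, lift_fst]

theorem gam_comp (ψ : (obj r : (St R A B).obj) ⟶ obj q) (φ : (obj q : (St R A B).obj) ⟶ obj p) :
    gam (ψ ≫ φ) = conv (gam ψ) ((rho ψ).comp (gam φ)) := by
  refine CoactBr.pt_injective ?_
  rw [conv, ← CoactBr.pt_mul_pt, CoactBr.pt_comp, rho, pt_algOf ψ.base]
  exact (pt_algOf _).trans (sec_fst_comp _ _ _ _ (top_eq_lift ψ) (top_eq_lift φ))

/-- Objects with affine base above a trivial torsor come from points. -/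
theorem exists_obj_iso {y₀ : (St R A B).obj} {T : Over (Spec (CommRingCat.of R))} {x : T ⟶ CoactBr.sp R B}
    (φ : y₀ ⟶ triv Scheme.fppfPrecoverage (CoactBr.sp R A) (CoactBr.action R A B) x) (h : IsAffine y₀.base.left) :
    ∃ p : Pt R B, Nonempty (obj p ≅ y₀) := by
  haveI := h
  let ψ := Spec.preimage (y₀.base.left.isoSpec.inv ≫ y₀.base.hom)
  letI : Algebra R Γ(y₀.base.left, ⊤) := ψ.hom.toAlgebra
  have hw : y₀.base.left.isoSpec.inv ≫ y₀.base.hom =
      Spec.map (CommRingCat.ofHom (algebraMap R Γ(y₀.base.left, ⊤))) := (Spec.map_preimage _).symm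
  let e : CoactBr.sp R Γ(y₀.base.left, ⊤) ≅ y₀.base := Over.isoMk y₀.base.left.isoSpec.symm hw
  let χ : triv Scheme.fppfPrecoverage (CoactBr.sp R A) (CoactBr.action R A B) (e.hom ≫ φ.base ≫ x) ⟶
      triv Scheme.fppfPrecoverage (CoactBr.sp R A) (CoactBr.action R A B) x :=
    (AlgSt.quotMap Scheme.fppfPrecoverage (CoactBr.sp R A) (CoactBr.action R A B)).map
      ⟨e.hom ≫ φ.base, congrArg ULift.up (Category.assoc e.hom φ.base x)⟩
  refine ⟨⟨Γ(y₀.base.left, ⊤), algOf (e.hom ≫ φ.base ≫ x)⟩, ⟨?_⟩⟩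
  exact eqToIso (by rw [obj, pt_algOf]) ≪≫ homLiftIso φ χ e rfl

theorem isStableAff : IsStableAff (obj : Pt R B → (St R A B).obj) := fun y₀ p φ h => exists_obj_iso φ h

theorem isDense (hp : FibCat.IsFibGrpd (St R A B).p) : IsDense (obj : Pt R B → (St R A B).obj) := by
  intro y₀
  obtain ⟨Rv, hR, hsec⟩ := exists_cover_triv y₀
  have pick : ∀ t, ∃ (Y : Scheme.{u}) (g : Y ⟶ y₀.base.left), Rv g ∧ t ∈ Set.range g := fun t => by
    obtain ⟨Y, g, ⟨hg⟩, hx⟩ := hR.1 t
    obtain ⟨w, rfl⟩ := hx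
    exact ⟨_, _, hg, w, rfl⟩
  choose Y g hg hx using pick
  choose x h hb using fun t => hsec (g t) (hg t)
  let z : y₀.base.left → (St R A B).obj := fun t =>
    triv Scheme.fppfPrecoverage (CoactBr.sp R A) (CoactBr.action R A B) (x t)
  let φ₀ : ∀ t, z t ⟶ y₀ := h
  have hcov : IsCov z φ₀ := by
    have e : ∀ t, StMod.bmap (St R A B) (φ₀ t) = g t := fun t => congrArg CommaMorphism.left (hb t)
    refine ⟨fun t => ?_, fun t => ?_, fun t => ⟨t, ?_⟩⟩
    · rw [e t]; exact (hR.2 (hg t)).1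
    · rw [e t]; exact (hR.2 (hg t)).2
    · obtain ⟨w, hw⟩ := hx t
      exact ⟨w, by rw [e t]; exact hw⟩
  choose ν y ψ hy hya _ using fun t => exists_affine_cover hp (z t)
  choose k hk using fun s : Σ t, ν t => exists_obj_iso (ψ s.1 s.2) (hya s.1 s.2)
  exact ⟨Σ t, ν t, k, _, (hcov.comp hy).iso_comp fun s => (hk s).some⟩

end Groth.Agent.StModLib.QuotAff
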