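import Groth.Agent.StModLib.QuotAff.Glob
import Groth.Agent.StModLib.EtBase
import Groth.Agent.QuotLib.CatModuli
import Mathlib.RingTheory.Flat.Basic

/-!
# Sections of pushforwards to the invariants over an affine etale chart
-/

set_option autoImplicit false
set_option linter.style.haveILetI false
set_option linter.unusedSectionVars false
set_option backward.isDefEq.respectTransparency false
set_option backward.isDefEq.respectTransparency.types false

universe u

open CategoryTheory CategoryTheory.Limits AlgebraicGeometry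
open scoped TensorProduct

noncomputable section

namespace Groth.Agent.StModLib.QuotAff

variable {R : Type u} [CommRing R] {A B : Type u} [CommRing A] [HopfAlgebra R A] [CommRing B] [Algebra R B]
  [HopfRep.Comod R A B] [GLin.IsCoactAlg R A B]

theorem coactAlgHom_invariant (c : ↥(GLin.invariants R A B)) : GLin.coactAlgHom R A B c = (c : B) ⊗ₜ[R] (1 : A) :=
  c.2

theorem move_invariant {K : Type u} [CommRing K] [Algebra R K] (x : B →ₐ[R] K) (g : A →ₐ[R] K) (c : ↥(GLin.invariants R A B)) :
    move x g c = x c := by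
  show Algebra.TensorProduct.lift x g (fun _ _ => .all _ _) (GLin.coactAlgHom R A B c) = x c
  rw [coactAlgHom_invariant, Algebra.TensorProduct.lift_tmul, map_one, mul_one]

section Delta

variable (M : Type u) [AddCommGroup M] [Module R M] [Module B M] [IsScalarTower R B M] [HopfRep.Comod R A M]
  [TameAct.IsHopfMod R A B M]

theorem coact_smul_invariant (c : ↥(GLin.invariants R A B)) (m : M) :
    HopfRep.Comod.coact (k := R) (A := A) (c • m) = c • HopfRep.Comod.coact (k := R) (A := A) m := by
  rw [show c • m = (c : B) • m from rfl, TameAct.IsHopfMod.coact_smul (k := R) (A := A),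
    show HopfRep.Comod.coact (k := R) (A := A) (c : B) = (c : B) ⊗ₜ[R] (1 : A) from coactAlgHom_invariant c]
  induction HopfRep.Comod.coact (k := R) (A := A) m using TensorProduct.induction_on with
  | zero => simp
  | add p q hp hq => rw [map_add, hp, hq, smul_add]
  | tmul n a => rw [TameAct.hmSMul_tmul, one_mul, TensorProduct.smul_tmul']; rfl

/-- The coaction minus the trivial one. -/
def delta : M →ₗ[↥(GLin.invariants R A B)] M ⊗[R] A where
  toFun m := HopfRep.Comod.coact (k := R) (A := A) m - m ⊗ₜ[R] (1 : A)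
  map_add' m n := by rw [map_add, TensorProduct.add_tmul]; abel
  map_smul' c m := by rw [coact_smul_invariant, RingHom.id_apply, smul_sub, TensorProduct.smul_tmul']

theorem mem_ker_delta (m : M) : m ∈ LinearMap.ker (delta (R := R) (A := A) (B := B) M) ↔
    HopfRep.Comod.coact (k := R) (A := A) m = m ⊗ₜ[R] (1 : A) := by
  rw [LinearMap.mem_ker]
  exact sub_eq_zero

end Delta

variable {π : St R A B ⥤ᵇ AlgSt.ofSch (CoactBr.sp R ↥(GLin.invariants R A B))}

theorem secP_obj (hρ : BasedFunctor.comp (AlgSt.quotMap Scheme.fppfPrecoverage (CoactBr.sp R A)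
    (CoactBr.action R A B)) π =
      AlgSt.ofSpMap ((AlgSp.yon (Spec (CommRingCat.of R))).map (CoactBr.pt (GLin.invariants R A B).val)))
    (p : Pt R B) : secP π (obj p) = CoactBr.pt (p.x.comp (GLin.invariants R A B).val) := by
  rw [CoactBr.pt_comp]
  have h : QuotLib.restrHom π =
      (AlgSp.yon (Spec (CommRingCat.of R))).map (CoactBr.pt (GLin.invariants R A B).val) := by
    rw [QuotLib.restrHom, hρ, AlgStLib.spHom_ofSpMap]
  exact congrArg ULift.down ((QuotLib.restrHom_app π (CoactBr.pt p.x)).symm.trans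
    (congrArg (fun k => k.hom.app (Opposite.op (CoactBr.sp R p.K)) ⟨CoactBr.pt p.x⟩) h))

variable (π) in
/-- An affine chart of a scheme etale over the invariants. -/
structure Chart (E : AlgSp.EtOver ((AlgSp.yon (Spec (CommRingCat.of R))).obj (CoactBr.sp R ↥(GLin.invariants R A B)))) where
  /-- the ring -/
  K : Type u
  [ring : CommRing K]
  [algR : Algebra R K]
  [algC : Algebra ↥(GLin.invariants R A B) K]
  [tower : IsScalarTower R ↥(GLin.invariants R A B) K]
  [flat : Module.Flat ↥(GLin.invariants R A B) K]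
  /-- the identification -/
  e : CoactBr.sp R K ≅ E.obj.left
  he : e.hom ≫ eMor E = CoactBr.pt (IsScalarTower.toAlgHom R ↥(GLin.invariants R A B) K)
  hρ : BasedFunctor.comp (AlgSt.quotMap Scheme.fppfPrecoverage (CoactBr.sp R A) (CoactBr.action R A B)) π =
    AlgSt.ofSpMap ((AlgSp.yon (Spec (CommRingCat.of R))).map (CoactBr.pt (GLin.invariants R A B).val))

attribute [instance] Chart.ring Chart.algR Chart.algC Chart.tower Chart.flat

variable {E : AlgSp.EtOver ((AlgSp.yon (Spec (CommRingCat.of R))).obj (CoactBr.sp R ↥(GLin.invariants R A B)))}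

theorem exists_chart (hρ : BasedFunctor.comp (AlgSt.quotMap Scheme.fppfPrecoverage (CoactBr.sp R A)
    (CoactBr.action R A B)) π =
      AlgSt.ofSpMap ((AlgSp.yon (Spec (CommRingCat.of R))).map (CoactBr.pt (GLin.invariants R A B).val)))
    (h : IsAffine E.obj.left.left) : Nonempty (Chart π E) := by
  haveI := h
  let ψ := Spec.preimage (E.obj.left.left.isoSpec.inv ≫ E.obj.left.hom)
  letI : Algebra R Γ(E.obj.left.left, ⊤) := ψ.hom.toAlgebra
  let e : CoactBr.sp R Γ(E.obj.left.left, ⊤) ≅ E.obj.left :=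
    Over.isoMk E.obj.left.left.isoSpec.symm (Spec.map_preimage _).symm
  let j := algOf (e.hom ≫ eMor E)
  letI : Algebra ↥(GLin.invariants R A B) Γ(E.obj.left.left, ⊤) := j.toRingHom.toAlgebra
  haveI : IsScalarTower R ↥(GLin.invariants R A B) Γ(E.obj.left.left, ⊤) := IsScalarTower.of_algebraMap_eq fun r => (j.commutes r).symm
  have he : e.hom ≫ eMor E = CoactBr.pt (IsScalarTower.toAlgHom R ↥(GLin.invariants R A B) Γ(E.obj.left.left, ⊤)) := by
    rw [show IsScalarTower.toAlgHom R ↥(GLin.invariants R A B) Γ(E.obj.left.left, ⊤) = j from AlgHom.ext fun _ => rfl, pt_algOf]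
  haveI : Module.Flat ↥(GLin.invariants R A B) Γ(E.obj.left.left, ⊤) := by
    haveI := etale_eMor E
    haveI : IsIso e.hom.left := inferInstanceAs (IsIso ((Over.forget _).map e.hom))
    have hf : Flat (Spec.map (CommRingCat.ofHom j.toRingHom)) := by
      rw [← CoactBr.pt_left, pt_algOf, Over.comp_left]
      exact inferInstanceAs (Flat (e.hom.left ≫ (eMor E).left))
    exact (HasRingHomProperty.Spec_iff (P := @Flat)).1 hf
  exact ⟨{ K := Γ(E.obj.left.left, ⊤), e := e, he := he, hρ := hρ }⟩

namespace Chart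

variable (c : Chart π E)

/-- The point over the chart. -/
def pt : Pt R B := ⟨B ⊗[↥(GLin.invariants R A B)] c.K, Algebra.TensorProduct.includeLeft⟩

/-- The chart in the ring of its point. -/
def inr : c.K →ₐ[R] c.pt.K :=
  ({ (Algebra.TensorProduct.includeRight : c.K →ₐ[↥(GLin.invariants R A B)] B ⊗[↥(GLin.invariants R A B)] c.K).toRingHom with
    commutes' := fun r => by
      show (1 : B) ⊗ₜ[↥(GLin.invariants R A B)] algebraMap R c.K r = algebraMap R B r ⊗ₜ[↥(GLin.invariants R A B)] (1 : c.K)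
      rw [IsScalarTower.algebraMap_apply R ↥(GLin.invariants R A B) c.K r, Algebra.algebraMap_eq_smul_one (R := ↥(GLin.invariants R A B)),
        ← TensorProduct.smul_tmul]
      refine congrArg (· ⊗ₜ[↥(GLin.invariants R A B)] (1 : c.K)) ?_
      rw [Algebra.smul_def, mul_one]
      rfl } : c.K →ₐ[R] B ⊗[↥(GLin.invariants R A B)] c.K)

theorem inr_algebraMap (z : ↥(GLin.invariants R A B)) : c.inr (algebraMap ↥(GLin.invariants R A B) c.K z) = c.pt.x z := by
  show (1 : B) ⊗ₜ[↥(GLin.invariants R A B)] algebraMap ↥(GLin.invariants R A B) c.K z = (z : B) ⊗ₜ[↥(GLin.invariants R A B)] (1 : c.K)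
  rw [Algebra.algebraMap_eq_smul_one, ← TensorProduct.smul_tmul]
  exact congrArg (· ⊗ₜ[↥(GLin.invariants R A B)] (1 : c.K)) (mul_one (z : B))

theorem exists_desc {K : Type u} [CommRing K] [Algebra R K] (x : B →ₐ[R] K) (f : c.K →ₐ[R] K)
    (w : ∀ z : ↥(GLin.invariants R A B), f (algebraMap ↥(GLin.invariants R A B) c.K z) = x z) :
    ∃ φ : c.pt.K →ₐ[R] K, φ.comp c.pt.x = x ∧ φ.comp c.inr = f := by
  letI : Algebra ↥(GLin.invariants R A B) K := (x.comp (GLin.invariants R A B).val).toRingHom.toAlgebra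
  haveI : IsScalarTower R ↥(GLin.invariants R A B) K := IsScalarTower.of_algebraMap_eq fun r =>
    ((x.comp (GLin.invariants R A B).val).commutes r).symm
  let x' : B →ₐ[↥(GLin.invariants R A B)] K := { x with commutes' := fun z => rfl }
  let f' : c.K →ₐ[↥(GLin.invariants R A B)] K := { f with commutes' := fun z => w z }
  let L : B ⊗[↥(GLin.invariants R A B)] c.K →ₐ[↥(GLin.invariants R A B)] K := Algebra.TensorProduct.lift x' f' (fun a b => Commute.all (x' a) (f' b))
  have h₁ : ∀ b, L (b ⊗ₜ 1) = x b := fun b => by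
    rw [Algebra.TensorProduct.lift_tmul, map_one, mul_one]
    rfl
  have h₂ : ∀ k, L (1 ⊗ₜ k) = f k := fun k => by
    rw [Algebra.TensorProduct.lift_tmul, map_one, one_mul]
    rfl
  refine ⟨({ L.toRingHom with commutes' := fun r => ?_ } : B ⊗[↥(GLin.invariants R A B)] c.K →ₐ[R] K), AlgHom.ext h₁, AlgHom.ext h₂⟩
  show L (algebraMap R B r ⊗ₜ[↥(GLin.invariants R A B)] (1 : c.K)) = algebraMap R K r
  rw [h₁, x.commutes]

theorem desc_ext {K : Type u} [CommRing K] [Algebra R K] {φ φ' : c.pt.K →ₐ[R] K}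
    (h₁ : φ.comp c.pt.x = φ'.comp c.pt.x) (h₂ : φ.comp c.inr = φ'.comp c.inr) : φ = φ' := by
  refine AlgHom.ext fun z => ?_
  change B ⊗[↥(GLin.invariants R A B)] c.K at z
  induction z using TensorProduct.induction_on with
  | zero => exact (map_zero φ).trans (map_zero φ').symm
  | add a b ha hb => exact (map_add φ a b).trans ((congrArg₂ (· + ·) ha hb).trans (map_add φ' a b).symm)
  | tmul b k =>
    have e : (b ⊗ₜ[↥(GLin.invariants R A B)] k : B ⊗[↥(GLin.invariants R A B)] c.K) = (show B ⊗[↥(GLin.invariants R A B)] c.K from c.pt.x b) * (show B ⊗[↥(GLin.invariants R A B)] c.K from c.inr k) := by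
      show b ⊗ₜ[↥(GLin.invariants R A B)] k = (b ⊗ₜ[↥(GLin.invariants R A B)] (1 : c.K)) * ((1 : B) ⊗ₜ[↥(GLin.invariants R A B)] k)
      rw [Algebra.TensorProduct.tmul_mul_tmul, mul_one, one_mul]
    rw [e]
    exact (map_mul φ (c.pt.x b) (c.inr k)).trans ((congrArg₂ (· * ·) (AlgHom.congr_fun h₁ b)
      (AlgHom.congr_fun h₂ k)).trans (map_mul φ' (c.pt.x b) (c.inr k)).symm)

theorem exists_alphaE : ∃ α : π.obj (obj c.pt) ⟶ StMod.etaOf E,
    StMod.baseOver π (obj c.pt) α = CoactBr.pt c.inr ≫ c.e.hom := by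
  refine exists_alpha _ ?_
  rw [secP_obj c.hρ, Category.assoc, c.he, ← CoactBr.pt_comp]
  exact congrArg CoactBr.pt (AlgHom.ext fun z => c.inr_algebraMap z)

/-- The morphism to the etale scheme. -/
def alpha : π.obj (obj c.pt) ⟶ StMod.etaOf E := c.exists_alphaE.choose

theorem baseOver_alpha : StMod.baseOver π (obj c.pt) c.alpha = CoactBr.pt c.inr ≫ c.e.hom :=
  c.exists_alphaE.choose_spec

/-- Every morphism from a point to the etale scheme factors through the point of the chart. -/
theorem exists_factor {p : Pt R B} (α : π.obj (obj p) ⟶ StMod.etaOf E) :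
    ∃ h : (obj p : (St R A B).obj) ⟶ obj c.pt, α = π.map h ≫ c.alpha := by
  let f : c.K →ₐ[R] p.K := algOf (StMod.baseOver π (obj p) α ≫ c.e.inv)
  have hf : CoactBr.pt f ≫ c.e.hom = StMod.baseOver π (obj p) α := by
    rw [pt_algOf, Category.assoc, Iso.inv_hom_id, Category.comp_id]
  have w : ∀ z : ↥(GLin.invariants R A B), f (algebraMap ↥(GLin.invariants R A B) c.K z) = p.x z := fun z => by
    have e : CoactBr.pt (f.comp (IsScalarTower.toAlgHom R ↥(GLin.invariants R A B) c.K)) =
        CoactBr.pt (p.x.comp (GLin.invariants R A B).val) := by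
      rw [CoactBr.pt_comp, ← c.he, ← Category.assoc, hf, baseOver_eMor, secP_obj c.hρ]
    exact AlgHom.congr_fun (CoactBr.pt_injective e) z
  obtain ⟨φ, hφ, hφ'⟩ := c.exists_desc p.x f w
  obtain ⟨h, hh, -⟩ := exists_hom (A := A) (p := c.pt) (q := p) φ (one p.K) (by rw [move_one, hφ])
  refine ⟨h, alpha_ext ?_⟩
  rw [← StMod.map_comp_baseOver, c.baseOver_alpha, ← hf, ← hφ', CoactBr.pt_comp, Category.assoc]
  refine congrArg (· ≫ CoactBr.pt c.inr ≫ c.e.hom) ?_
  show CoactBr.pt φ = h.base
  rw [← hh, rho, pt_algOf]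

variable (F : StMod.QCoh (St R A B))

/-- The value at the point of the chart. -/
def ev : StMod.Mod.RelSect π F.obj (StMod.etaOf E) →+ Sec F c.pt :=
  AddMonoidHom.mk' (fun s => toSec F c.pt (s.1 (obj c.pt) c.alpha)) fun _ _ => rfl

theorem ev_injective (hp : FibCat.IsFibGrpd (St R A B).p) : Function.Injective (c.ev F) := by
  intro s s' e
  refine relSect_ext_of_dense hp (isDense hp) F.property fun p α => ?_
  obtain ⟨h, rfl⟩ := c.exists_factor α
  rw [← s.2 h c.alpha, ← s'.2 h c.alpha]
  exact congrArg (F.obj.mapTop h) e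

theorem ev_relSectMap {G : StMod.QCoh (St R A B)} (a : F ⟶ G)
    (s : StMod.Mod.RelSect π F.obj (StMod.etaOf E)) :
    c.ev G (StMod.Mod.relSectMap π a.hom (StMod.etaOf E) s) =
      toSec G c.pt ((a.hom.app (obj c.pt)).app ⊤ (ofSec F c.pt (c.ev F s))) :=
  rfl

/-- The function on the etale scheme of an element of the chart. -/
def fn (k : c.K) : Γ(E.obj.left.left, ⊤) := c.e.inv.left.appTop (gE (R := R) c.K k)

theorem fn_alpha (k : c.K) : (StMod.baseOver π (obj c.pt) c.alpha).left.appTop (c.fn k) =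
    fE (A := A) c.pt (c.inr k) := by
  rw [c.baseOver_alpha]
  show (CoactBr.pt c.inr).left.appTop (c.e.hom.left.appTop (c.e.inv.left.appTop (gE (R := R) c.K k))) =
    gE (R := R) c.pt.K (c.inr k)
  have e := congr($(congrArg (fun q : CoactBr.sp R c.K ⟶ CoactBr.sp R c.K => q.left.appTop) c.e.hom_inv_id)
    (gE (R := R) c.K k))
  rw [show c.e.hom.left.appTop (c.e.inv.left.appTop (gE (R := R) c.K k)) = gE (R := R) c.K k from e,
    appTop_gE, algOf_pt]

theorem ev_smul (k : c.K) (s : StMod.Mod.RelSect π F.obj (StMod.etaOf E)) :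
    c.ev F ((show Γ(StMod.sch _ (StMod.etaOf E), ⊤) from c.fn k) • s) = c.inr k • c.ev F s := by
  show (StMod.baseOver π (obj c.pt) c.alpha).left.appTop (c.fn k) • s.1 (obj c.pt) c.alpha =
    fE (A := A) c.pt (c.inr k) • s.1 (obj c.pt) c.alpha
  rw [c.fn_alpha]

theorem bmap_smul_eq (z : ↥(GLin.invariants R A B)) (x : Sec F c.pt) : c.inr (algebraMap ↥(GLin.invariants R A B) c.K z) • x = c.pt.x z • x := by
  rw [c.inr_algebraMap]

/-- The comparison from the base change of the tautological module. -/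
def kap : c.K ⊗[↥(GLin.invariants R A B)] HM F →+ Sec F c.pt :=
  TensorProduct.liftAddHom
    (AddMonoidHom.mk' (fun k => AddMonoidHom.mk' (fun m : HM F => c.inr k • sres F (toU c.pt) (ofHM F m))
        fun m n => by rw [map_add, map_add, smul_add])
      fun k l => AddMonoidHom.ext fun m => by
        show c.inr (k + l) • sres F (toU c.pt) (ofHM F m) = _
        rw [map_add, add_smul]
        rfl)
    fun z k m => by
      show c.inr (z • k) • sres F (toU c.pt) (ofHM F m) = c.inr k • sres F (toU c.pt) (ofHM F (z • m))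
      rw [show (z • m : HM F) = (z : B) • m from rfl, ofHM_smul, sres_smul, rho_toU, Algebra.smul_def, map_mul,
        c.inr_algebraMap, mul_comm, mul_smul]
      rfl

theorem kap_tmul (k : c.K) (m : HM F) : c.kap F (k ⊗ₜ[↥(GLin.invariants R A B)] m) = c.inr k • sres F (toU c.pt) (ofHM F m) := rfl

theorem kap_surjective : Function.Surjective (c.kap F) := by
  intro v
  obtain ⟨z, rfl⟩ := (bijective_theta F c.pt).2 v
  induction z using TensorProduct.induction_on with
  | zero => exact ⟨0, by simp⟩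
  | add a b ha hb =>
    obtain ⟨a', ha'⟩ := ha
    obtain ⟨b', hb'⟩ := hb
    exact ⟨a' + b', by rw [map_add, map_add, ha', hb']⟩
  | tmul s m =>
    change B ⊗[↥(GLin.invariants R A B)] c.K at s
    induction s using TensorProduct.induction_on with
    | zero => exact ⟨0, by rw [map_zero, TensorProduct.zero_tmul]; exact (map_zero _).symm⟩
    | add a b ha hb =>
      obtain ⟨a', ha'⟩ := ha
      obtain ⟨b', hb'⟩ := hb
      refine ⟨a' + b', ?_⟩
      rw [map_add, ha', hb', ← map_add]
      exact congrArg (theta F c.pt) (TensorProduct.add_tmul _ _ _).symm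
    | tmul b k =>
      refine ⟨k ⊗ₜ[↥(GLin.invariants R A B)] (b • m), ?_⟩
      rw [kap_tmul, theta_tmul, ofHM_smul, sres_smul, rho_toU, ← mul_smul]
      refine congrArg (· • sres F (toU c.pt) (ofHM F m)) ?_
      show ((1 : B) ⊗ₜ[↥(GLin.invariants R A B)] k) * (b ⊗ₜ[↥(GLin.invariants R A B)] (1 : c.K)) = b ⊗ₜ[↥(GLin.invariants R A B)] k
      rw [Algebra.TensorProduct.tmul_mul_tmul, mul_one, one_mul]

/-- The point over the product with the group. -/
def ptA : Pt R B := ⟨c.pt.K ⊗[R] A, Algebra.TensorProduct.includeLeft.comp c.pt.x⟩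

/-- The group factor. -/
def inA : A →ₐ[R] c.ptA.K := (Algebra.TensorProduct.includeRight : A →ₐ[R] c.pt.K ⊗[R] A)

/-- The chart factor. -/
def inK : c.pt.K →ₐ[R] c.ptA.K := (Algebra.TensorProduct.includeLeft : c.pt.K →ₐ[R] c.pt.K ⊗[R] A)

end Chart

end Groth.Agent.StModLib.QuotAff
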