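import Groth.Agent.StModLib.QuotAff.Chart

/-!
# Sections over an affine chart come from invariants
-/

set_option autoImplicit false
set_option linter.style.haveILetI false
set_option linter.unusedSectionVars false
set_option backward.isDefEq.respectTransparency false
set_option backward.isDefEq.respectTransparency.types false

universe u

open CategoryTheory CategoryTheory.Limits AlgebraicGeometry
open scoped TensorProduct

noncomputable section

namespace Groth.Agent.StModLib.QuotAff

variable {R : Type u} [CommRing R] {A B : Type u} [CommRing A] [HopfAlgebra R A] [CommRing B] [Algebra R B]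
  [HopfRep.Comod R A B] [GLin.IsCoactAlg R A B]
  {π : St R A B ⥤ᵇ AlgSt.ofSch (CoactBr.sp R ↥(GLin.invariants R A B))}
  {E : AlgSp.EtOver ((AlgSp.yon (Spec (CommRingCat.of R))).obj (CoactBr.sp R ↥(GLin.invariants R A B)))}

namespace Chart

variable (c : Chart π E) (F : StMod.QCoh (St R A B))

/-- One piece of the retraction. -/
def piece (m : HM F) (a : A) :
    B ⊗[↥(GLin.invariants R A B)] c.K →ₗ[↥(GLin.invariants R A B)]
      c.K ⊗[↥(GLin.invariants R A B)] (HM F ⊗[R] A) :=
  LinearMap.lTensor c.K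
    ({ toFun := fun b => (b • m) ⊗ₜ[R] a
       map_add' := fun b b' => by rw [add_smul, TensorProduct.add_tmul]
       map_smul' := fun z b => by
        rw [RingHom.id_apply, TensorProduct.smul_tmul', show z • b = (z : B) * b from rfl, mul_smul]
        rfl } : B →ₗ[↥(GLin.invariants R A B)] HM F ⊗[R] A) ∘ₗ
    (TensorProduct.comm ↥(GLin.invariants R A B) B c.K).toLinearMap

theorem piece_tmul (m : HM F) (a : A) (b : B) (k : c.K) :
    c.piece F m a (b ⊗ₜ k) = k ⊗ₜ ((b • m) ⊗ₜ[R] a) :=
  rfl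

theorem piece_add_left (m n : HM F) (a : A) (t : B ⊗[↥(GLin.invariants R A B)] c.K) :
    c.piece F (m + n) a t = c.piece F m a t + c.piece F n a t := by
  induction t using TensorProduct.induction_on with
  | zero => simp
  | add x y hx hy => rw [map_add, map_add, map_add, hx, hy]; abel
  | tmul b k => rw [piece_tmul, piece_tmul, piece_tmul, smul_add, TensorProduct.add_tmul, TensorProduct.tmul_add]

theorem piece_add_right (m : HM F) (a a' : A) (t : B ⊗[↥(GLin.invariants R A B)] c.K) :
    c.piece F m (a + a') t = c.piece F m a t + c.piece F m a' t := by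
  induction t using TensorProduct.induction_on with
  | zero => simp
  | add x y hx hy => rw [map_add, map_add, map_add, hx, hy]; abel
  | tmul b k => rw [piece_tmul, piece_tmul, piece_tmul, TensorProduct.tmul_add, TensorProduct.tmul_add]

/-- The retraction at an element. -/
def retAt (m : HM F) :
    (B ⊗[↥(GLin.invariants R A B)] c.K) ⊗[R] A →+ c.K ⊗[↥(GLin.invariants R A B)] (HM F ⊗[R] A) :=
  TensorProduct.liftAddHom
    (AddMonoidHom.mk' (fun t => AddMonoidHom.mk' (fun a => c.piece F m a t) fun a a' => c.piece_add_right F m a a' t)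
      fun t t' => AddMonoidHom.ext fun a => map_add (c.piece F m a) t t')
    fun r t a => by
      show c.piece F m a (r • t) = c.piece F m (r • a) t
      induction t using TensorProduct.induction_on with
      | zero => simp
      | add x y hx hy => rw [smul_add, map_add, map_add, hx, hy]
      | tmul b k =>
        rw [TensorProduct.smul_tmul', piece_tmul, piece_tmul, smul_assoc, TensorProduct.smul_tmul]

theorem retAt_tmul (m : HM F) (b : B) (k : c.K) (a : A) :
    c.retAt F m ((b ⊗ₜ[↥(GLin.invariants R A B)] k) ⊗ₜ[R] a) = k ⊗ₜ ((b • m) ⊗ₜ[R] a) :=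
  rfl

theorem retAt_add (m n : HM F) (t : (B ⊗[↥(GLin.invariants R A B)] c.K) ⊗[R] A) :
    c.retAt F (m + n) t = c.retAt F m t + c.retAt F n t := by
  induction t using TensorProduct.induction_on with
  | zero => simp
  | add x y hx hy => rw [map_add, map_add, map_add, hx, hy]; abel
  | tmul s a => exact c.piece_add_left F m n a s

set_option synthInstance.maxHeartbeats 400000 in
set_option synthInstance.maxSize 1024 in
theorem retAt_x_mul (b : B) (m : HM F) (t : (B ⊗[↥(GLin.invariants R A B)] c.K) ⊗[R] A) :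
    c.retAt F m (((b ⊗ₜ[↥(GLin.invariants R A B)] (1 : c.K)) ⊗ₜ[R] (1 : A)) * t) = c.retAt F (b • m) t := by
  have h0 : ((b ⊗ₜ[↥(GLin.invariants R A B)] (1 : c.K)) ⊗ₜ[R] (1 : A)) *
      (0 : (B ⊗[↥(GLin.invariants R A B)] c.K) ⊗[R] A) = 0 := by
    exact mul_zero (M₀ := c.ptA.K) _
  have hadd : ∀ x y : (B ⊗[↥(GLin.invariants R A B)] c.K) ⊗[R] A,
      ((b ⊗ₜ[↥(GLin.invariants R A B)] (1 : c.K)) ⊗ₜ[R] (1 : A)) * (x + y) =
      ((b ⊗ₜ[↥(GLin.invariants R A B)] (1 : c.K)) ⊗ₜ[R] (1 : A)) * x +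
      ((b ⊗ₜ[↥(GLin.invariants R A B)] (1 : c.K)) ⊗ₜ[R] (1 : A)) * y := fun x y => by exact mul_add (R := c.ptA.K) _ x y
  induction t using TensorProduct.induction_on with
  | zero => rw [h0, map_zero, map_zero]
  | add x y hx hy => rw [hadd, map_add, map_add, hx, hy]
  | tmul s a =>
    induction s using TensorProduct.induction_on with
    | zero => rw [TensorProduct.zero_tmul, h0, map_zero, map_zero]
    | add x y hx hy => rw [TensorProduct.add_tmul, hadd, map_add, map_add, hx, hy]
    | tmul b' k =>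
      rw [Algebra.TensorProduct.tmul_mul_tmul, Algebra.TensorProduct.tmul_mul_tmul, one_mul, one_mul, retAt_tmul,
        retAt_tmul, mul_comm, mul_smul]

/-- The retraction. -/
def ret : c.ptA.K ⊗[B] HM F →+ c.K ⊗[↥(GLin.invariants R A B)] (HM F ⊗[R] A) :=
  TensorProduct.liftAddHom
    (AddMonoidHom.mk' (fun s => AddMonoidHom.mk' (fun m => c.retAt F m s) fun m n => c.retAt_add F m n s)
      fun s s' => AddMonoidHom.ext fun m => map_add (c.retAt F m) s s')
    fun b s m => by
      show c.retAt F m (b • s) = c.retAt F (b • m) s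
      rw [Algebra.smul_def]
      exact c.retAt_x_mul F b m s

/-- The inverse of the comparison over the product. -/
def thetaInv : Sec F c.ptA →+ c.ptA.K ⊗[B] HM F :=
  (AddEquiv.ofBijective (theta F c.ptA) (bijective_theta F c.ptA)).symm.toAddMonoidHom

theorem thetaInv_theta (z : c.ptA.K ⊗[B] HM F) : c.thetaInv F (theta F c.ptA z) = z :=
  (AddEquiv.ofBijective (theta F c.ptA) (bijective_theta F c.ptA)).symm_apply_apply z

theorem ret_inK_inA (k : c.K) (a : A) (n : HM F) :
    c.ret F (c.inK (c.inr k) • (c.inA a ⊗ₜ[B] n)) = k ⊗ₜ (n ⊗ₜ[R] a) := by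
  rw [TensorProduct.smul_tmul']
  show c.retAt F n ((((1 : B) ⊗ₜ[↥(GLin.invariants R A B)] k) ⊗ₜ[R] (1 : A)) *
    (((1 : B) ⊗ₜ[↥(GLin.invariants R A B)] (1 : c.K)) ⊗ₜ[R] a)) = _
  rw [Algebra.TensorProduct.tmul_mul_tmul, Algebra.TensorProduct.tmul_mul_tmul, one_mul, one_mul, mul_one,
    retAt_tmul, one_smul]

theorem exists_prjA : ∃ h : (obj c.ptA : (St R A B).obj) ⟶ obj c.pt, rho h = c.inK ∧ gam h = one c.ptA.K :=
  exists_hom (A := A) (p := c.pt) (q := c.ptA) c.inK (one c.ptA.K) (by rw [move_one]; rfl)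

theorem exists_actA : ∃ h : (obj c.ptA : (St R A B).obj) ⟶ obj c.pt,
    (rho h).comp c.inr = c.inK.comp c.inr ∧ gam h = c.inA := by
  obtain ⟨φ, hφ, hφ'⟩ := c.exists_desc (move c.ptA.x c.inA) (c.inK.comp c.inr) fun z => by
    rw [move_invariant]
    exact congrArg c.inK (c.inr_algebraMap z)
  obtain ⟨h, hh, hh'⟩ := exists_hom (A := A) (p := c.pt) (q := c.ptA) φ c.inA hφ
  exact ⟨h, by rw [hh, hφ'], hh'⟩

theorem map_alpha_eq {h h' : (obj c.ptA : (St R A B).obj) ⟶ obj c.pt}
    (e : (rho h).comp c.inr = (rho h').comp c.inr) : π.map h ≫ c.alpha = π.map h' ≫ c.alpha := by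
  refine alpha_ext ?_
  rw [← StMod.map_comp_baseOver, ← StMod.map_comp_baseOver, c.baseOver_alpha]
  show h.base ≫ CoactBr.pt c.inr ≫ c.e.hom = h'.base ≫ CoactBr.pt c.inr ≫ c.e.hom
  rw [← pt_algOf h.base, ← pt_algOf h'.base, ← Category.assoc, ← Category.assoc, ← CoactBr.pt_comp,
    ← CoactBr.pt_comp]
  exact congrArg (fun f => CoactBr.pt f ≫ c.e.hom) e

theorem thetaInv_sres {h : (obj c.ptA : (St R A B).obj) ⟶ obj c.pt} (hr : (rho h).comp c.inr = c.inK.comp c.inr)
    (k : c.K) (m : HM F) : c.thetaInv F (sres F h (c.kap F (k ⊗ₜ m))) =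
      c.inK (c.inr k) • twist (B := B) (gam h).toLinearMap (hcoact F m) := by
  rw [kap_tmul, sres_smul, ← sres_comp, sres_toUpt, gam_comp, gam_toU, comp_one, conv_one_right, ← theta_smul,
    thetaInv_theta, show rho h (c.inr k) = c.inK (c.inr k) from AlgHom.congr_fun hr k]

theorem exists_fixed_of_ev (v : StMod.Mod.RelSect π F.obj (StMod.etaOf E)) :
    ∃ y : c.K ⊗[↥(GLin.invariants R A B)] LinearMap.ker (delta (R := R) (A := A) (B := B) (HM F)),
      c.ev F v = c.kap F ((LinearMap.ker (delta (R := R) (A := A) (B := B) (HM F))).subtype.lTensor c.K y) := by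
  obtain ⟨y, hy⟩ := c.kap_surjective F (c.ev F v)
  obtain ⟨h₀, hr₀, hg₀⟩ := c.exists_prjA
  obtain ⟨h₁, hr₁, hg₁⟩ := c.exists_actA
  have he : sres F h₁ (c.ev F v) = sres F h₀ (c.ev F v) := by
    show F.obj.mapTop h₁ (v.1 _ c.alpha) = F.obj.mapTop h₀ (v.1 _ c.alpha)
    rw [v.2, v.2, c.map_alpha_eq (h := h₁) (h' := h₀) (by rw [hr₁, hr₀])]
  let Φ := fun h : (obj c.ptA : (St R A B).obj) ⟶ obj c.pt => c.ret F (c.thetaInv F (sres F h (c.kap F y)))
  have hΦ : Φ h₁ = Φ h₀ := by simp only [Φ, hy, he]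
  have k₁ : ∀ t, c.ret F (c.thetaInv F (sres F h₁ (c.kap F t))) =
      LinearMap.lTensor c.K (delta (R := R) (A := A) (B := B) (HM F)) t +
        c.ret F (c.thetaInv F (sres F h₀ (c.kap F t))) := fun t => by
    induction t using TensorProduct.induction_on with
    | zero => simp only [map_zero, add_zero]
    | add a b ha hb => simp only [map_add, ha, hb]; abel
    | tmul k m =>
      have e₁ : ∀ t : HM F ⊗[R] A, c.ret F (c.inK (c.inr k) • twist (B := B) c.inA.toLinearMap t) = k ⊗ₜ t :=
        fun t => by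
          induction t using TensorProduct.induction_on with
          | zero => simp
          | add a b ha hb => simp only [map_add, smul_add, ha, hb, TensorProduct.tmul_add]
          | tmul n a => rw [twist_tmul]; exact c.ret_inK_inA F k a n
      have e₀ : twist (B := B) (one c.ptA.K : A →ₐ[R] c.ptA.K).toLinearMap (hcoact F m) = c.inA 1 ⊗ₜ[B] m := by
        rw [one]
        erw [twist_one]
        rw [hcoact_counit, TensorProduct.rid_tmul, one_smul, map_one]
      rw [c.thetaInv_sres F (h := h₁) hr₁, c.thetaInv_sres F (h := h₀) (by rw [hr₀]), hg₁, hg₀, e₁, e₀,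
        c.ret_inK_inA, LinearMap.lTensor_tmul]
      show k ⊗ₜ hcoact F m = k ⊗ₜ (hcoact F m - m ⊗ₜ[R] (1 : A)) + k ⊗ₜ (m ⊗ₜ[R] (1 : A))
      rw [← TensorProduct.tmul_add, sub_add_cancel]
  have hδ : LinearMap.lTensor c.K (delta (R := R) (A := A) (B := B) (HM F)) y = 0 := by
    have := k₁ y
    simp only [Φ] at hΦ
    rw [hΦ] at this
    exact add_eq_right.1 this.symm
  obtain ⟨y', hy'⟩ := (Module.Flat.lTensor_exact c.K
    (LinearMap.exact_subtype_ker_map (delta (R := R) (A := A) (B := B) (HM F))) y).1 hδ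
  exact ⟨y', by rw [hy', hy]⟩

theorem exists_ev_eq_fixed (hp : FibCat.IsFibGrpd (St R A B).p) (k : c.K) {m : HM F}
    (hm : HopfRep.Comod.coact (k := R) (A := A) m = m ⊗ₜ[R] (1 : A)) :
    ∃ s : StMod.Mod.RelSect π F.obj (StMod.etaOf E), c.ev F s = c.kap F (k ⊗ₜ m) := by
  obtain ⟨g, hg⟩ := exists_globSect F hp hm
  refine ⟨(show Γ(StMod.sch _ (StMod.etaOf E), ⊤) from c.fn k) • relOfGlob π g _, ?_⟩
  rw [c.ev_smul, kap_tmul]
  exact congrArg (c.inr k • ·) (hg c.pt)

theorem app_kap {G : StMod.QCoh (St R A B)} (a : F ⟶ G)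
    (y : c.K ⊗[↥(GLin.invariants R A B)] HM F) :
    toSec G c.pt ((a.hom.app (obj c.pt)).app ⊤ (ofSec F c.pt (c.kap F y))) =
      c.kap G (((hmap a).restrictScalars ↥(GLin.invariants R A B)).lTensor c.K y) := by
  induction y using TensorProduct.induction_on with
  | zero => simp
  | add s t hs ht => simp only [map_add, hs, ht]
  | tmul k m =>
    rw [LinearMap.lTensor_tmul, kap_tmul, kap_tmul, ofSec_smul]
    refine (Scheme.Modules.Hom.app_smul (a.hom.app (obj c.pt)) _ _).trans ?_
    exact congrArg (fun v : Sec G c.pt => c.inr k • v) (StMod.Mod.mapTop_app a.hom (toU c.pt) m).symm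

include c in
/-- If invariants lift, so do sections over the chart. -/
theorem surjective_relSectMap (hp : FibCat.IsFibGrpd (St R A B).p) {G : StMod.QCoh (St R A B)} (a : F ⟶ G)
    (H : ∀ n : HM G, HopfRep.Comod.coact (k := R) (A := A) n = n ⊗ₜ[R] (1 : A) →
      ∃ m : HM F, HopfRep.Comod.coact (k := R) (A := A) m = m ⊗ₜ[R] (1 : A) ∧ hmap a m = n) :
    Function.Surjective (StMod.Mod.relSectMap π a.hom (StMod.etaOf E)) := by
  intro v
  obtain ⟨y, hy⟩ := c.exists_fixed_of_ev G v
  have key : ∀ y, ∃ s, c.ev G (StMod.Mod.relSectMap π a.hom (StMod.etaOf E) s) =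
      c.kap G ((LinearMap.ker (delta (R := R) (A := A) (B := B) (HM G))).subtype.lTensor c.K y) := fun y => by
    induction y using TensorProduct.induction_on with
    | zero => exact ⟨0, by simp⟩
    | add s t hs ht =>
      obtain ⟨s', hs'⟩ := hs
      obtain ⟨t', ht'⟩ := ht
      exact ⟨s' + t', by simp only [map_add, hs', ht']⟩
    | tmul k n =>
      obtain ⟨m, hm, hmn⟩ := H n ((mem_ker_delta (A := A) (B := B) (HM G) n).1 n.2)
      obtain ⟨s, hs⟩ := c.exists_ev_eq_fixed F hp k hm
      refine ⟨s, ?_⟩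
      rw [ev_relSectMap, hs, app_kap, LinearMap.lTensor_tmul, LinearMap.lTensor_tmul]
      exact congrArg (fun z => c.kap G (k ⊗ₜ z)) hmn
  obtain ⟨s, hs⟩ := key y
  exact ⟨s, c.ev_injective G hp (hs.trans hy.symm)⟩

end Chart

end Groth.Agent.StModLib.QuotAff
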