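import Groth.Agent.StModLib.QuotAff.ToHopf
import Groth.Prelude.Def_StMod

/-!
# Global sections from invariant elements
-/

set_option autoImplicit false
set_option linter.style.haveILetI false
set_option linter.unusedSectionVars false
set_option backward.isDefEq.respectTransparency false
set_option backward.isDefEq.respectTransparency.types false

universe v u

open CategoryTheory CategoryTheory.Limits AlgebraicGeometry
open scoped TensorProduct

noncomputable section

namespace Groth.Agent.StModLib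

variable {S : Scheme.{u}} {𝒴 : AlgSt.Cat S} {T : Type v} {o : T → 𝒴.obj}

/-- A compatible family on a dense family of affine objects gives a global section. -/
theorem exists_globSect_of_denseAff (hp : FibCat.IsFibGrpd 𝒴.p) (hd : IsDense o) (hs : IsStableAff o)
    {F : StMod.Mod 𝒴} (hF : StMod.isQCoh 𝒴 F) (v : ∀ t, Γ(F.obj (o t), ⊤))
    (hv : ∀ {t' t : T} (φ : o t' ⟶ o t), F.mapTop φ (v t) = v t') :
    ∃ s : F.GlobSect, ∀ t, s.1 (o t) = v t := by
  obtain ⟨a, ha⟩ := exists_hom_of_denseAff hp hd hs (G := StMod.O 𝒴) hF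
    (fun t => AddMonoidHom.mk' (fun x : Γ((StMod.O 𝒴).obj (o t), ⊤) => (show Γ(StMod.sch 𝒴 (o t), ⊤) from x) • v t)
      fun x x' => add_smul (show Γ(StMod.sch 𝒴 (o t), ⊤) from x) (show Γ(StMod.sch 𝒴 (o t), ⊤) from x') (v t))
    (fun t r x => mul_smul r (show Γ(StMod.sch 𝒴 (o t), ⊤) from x) (v t)) (fun {t' t} φ x => by
      show F.mapTop φ ((show Γ(StMod.sch 𝒴 (o t), ⊤) from x) • v t) = (StMod.bmap 𝒴 φ).appTop x • v t'
      rw [StMod.Mod.mapTop_smul, hv])
  refine ⟨⟨fun ξ => (a.app ξ).app ⊤ (show Γ(StMod.sch 𝒴 ξ, ⊤) from 1), fun ξ' ξ φ => ?_⟩, fun t => ?_⟩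
  · rw [StMod.Mod.mapTop_app]
    refine congrArg ((a.app ξ').app ⊤) ?_
    exact map_one (StMod.bmap 𝒴 φ).appTop.hom
  · refine (ha t (show Γ(StMod.sch 𝒴 (o t), ⊤) from 1)).trans ?_
    exact one_smul _ (v t)

/-- Sections of a pushforward are determined on a dense family of affine objects. -/
theorem relSect_ext_of_dense (hp : FibCat.IsFibGrpd 𝒴.p) (hd : IsDense o) {𝒵 : AlgSt.Cat S} {π : 𝒴 ⥤ᵇ 𝒵}
    {F : StMod.Mod 𝒴} (hF : StMod.isQCoh 𝒴 F) {η : 𝒵.obj} {s s' : StMod.Mod.RelSect π F η}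
    (h : ∀ t (α : π.obj (o t) ⟶ η), s.1 (o t) α = s'.1 (o t) α) : s = s' := by
  refine StMod.Mod.RelSect.ext π F η fun ξ α => ?_
  obtain ⟨ι, k, g, hg⟩ := hd ξ
  refine (isSheaf_modSys hp hF).1 _ g hg _ _ fun i => ?_
  show F.mapTop (g i) (s.1 ξ α) = F.mapTop (g i) (s'.1 ξ α)
  rw [s.2 (g i) α, s'.2 (g i) α]
  exact h _ _

/-- The section of a pushforward of a global section. -/
def relOfGlob {𝒵 : AlgSt.Cat S} (π : 𝒴 ⥤ᵇ 𝒵) {F : StMod.Mod 𝒴} (s : F.GlobSect) (η : 𝒵.obj) :
    StMod.Mod.RelSect π F η :=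
  ⟨fun ξ _ => s.1 ξ, fun _ _ φ _ => s.2 φ⟩

namespace QuotAff

variable {R : Type u} [CommRing R] {A B : Type u} [CommRing A] [HopfAlgebra R A] [CommRing B] [Algebra R B]
  [HopfRep.Comod R A B] [GLin.IsCoactAlg R A B] (F : StMod.QCoh (St R A B))

theorem sres_toU_of_fixed {m : HM F} (hm : HopfRep.Comod.coact (k := R) (A := A) m = m ⊗ₜ[R] 1) {p q : Pt R B}
    (h : (obj q : (St R A B).obj) ⟶ obj p) :
    sres F h (sres F (toU p) (ofHM F m)) = sres F (toU q) (ofHM F m) := by
  rw [← sres_comp, sres_toUpt, show hcoact F m = m ⊗ₜ[R] 1 from hm, twist_tmul, theta_tmul,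
    AlgHom.toLinearMap_apply, map_one, one_smul]

/-- An invariant element gives a global section. -/
theorem exists_globSect (hp : FibCat.IsFibGrpd (St R A B).p) {m : HM F}
    (hm : HopfRep.Comod.coact (k := R) (A := A) m = m ⊗ₜ[R] 1) :
    ∃ s : F.obj.GlobSect, ∀ p : Pt R B, toSec F p (s.1 (obj p)) = sres F (toU p) (ofHM F m) := by
  obtain ⟨s, hs⟩ := exists_globSect_of_denseAff hp (isDense hp) isStableAff F.property
    (fun p => ofSec F p (sres F (toU p) (ofHM F m))) fun {q p} h => sres_toU_of_fixed F hm h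
  exact ⟨s, fun p => (congrArg (toSec F p) (hs p)).trans rfl⟩

/-- The value at the tautological point of an invariant family is invariant. -/
theorem coact_eq_of_sres {m : HM F}
    (hm : sres F actMor (ofHM F m) = sres F (toU (wpt A)) (ofHM F m)) :
    HopfRep.Comod.coact (k := R) (A := A) m = m ⊗ₜ[R] 1 := by
  apply (bijective_wE F A).1
  show wE F A (hcoact F m) = theta F (wpt A) (twist (inr (R := R) (B := B) A).toLinearMap (m ⊗ₜ[R] 1))
  rw [wE_hcoact, twist_tmul, theta_tmul, AlgHom.toLinearMap_apply, map_one, one_smul]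
  exact hm

end QuotAff

end Groth.Agent.StModLib
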