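import Groth.Prelude.Def_CoactBr
import Groth.Prelude.Def_W4c1tameactTame
import Mathlib.RingTheory.IsTensorProduct

/-!
# Twisting base changes of a relative Hopf module by points of the group
-/

set_option autoImplicit false
set_option linter.style.haveILetI false
set_option linter.unusedSectionVars false

universe u

open scoped TensorProduct
open TensorProduct

noncomputable section

namespace Groth.Agent.StModLib.QuotAff

variable {R : Type u} [CommRing R] {A B : Type u} [CommRing A] [HopfAlgebra R A] [CommRing B] [Algebra R B]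
  {M : Type u} [AddCommGroup M] [Module R M] [Module B M] [IsScalarTower R B M]
  {K K' K'' : Type u} [CommRing K] [Algebra R K] [Algebra B K] [IsScalarTower R B K]
  [CommRing K'] [Algebra R K'] [Algebra B K'] [IsScalarTower R B K']
  [CommRing K''] [Algebra R K''] [Algebra B K''] [IsScalarTower R B K'']

section

variable {C : Type u} [AddCommGroup C] [Module R C]

/-- Evaluate the group factor and move it to the scalars. -/
def twist (γ : C →ₗ[R] K) : M ⊗[R] C →ₗ[R] K ⊗[B] M :=
  TensorProduct.lift (LinearMap.mk₂ R (fun m c => γ c ⊗ₜ[B] m)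
    (fun m m' c => tmul_add _ _ _)
    (fun r m c => by
      show γ c ⊗ₜ[B] (r • m) = r • (γ c ⊗ₜ[B] m)
      rw [← IsScalarTower.algebraMap_smul B r m, ← smul_tmul, IsScalarTower.algebraMap_smul]
      rfl)
    (fun m c c' => by rw [map_add, add_tmul])
    (fun r m c => by rw [map_smul, smul_tmul']))

@[simp] theorem twist_tmul (γ : C →ₗ[R] K) (m : M) (c : C) : twist (B := B) γ (m ⊗ₜ[R] c) = γ c ⊗ₜ[B] m :=
  lift.tmul _ _

end

theorem twist_hmSMul (g : A →ₐ[R] K) (t : B ⊗[R] A) (w : M ⊗[R] A) :
    twist (B := B) g.toLinearMap (TameAct.hmSMul R A B M t w) =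
      Algebra.TensorProduct.lift (IsScalarTower.toAlgHom R B K) g (fun _ _ => .all _ _) t •
        twist (B := B) g.toLinearMap w := by
  induction t using TensorProduct.induction_on with
  | zero => simp
  | add p q hp hq => simp only [map_add, LinearMap.add_apply, hp, hq, add_smul]
  | tmul b a =>
    induction w using TensorProduct.induction_on with
    | zero => simp
    | add p q hp hq => simp only [map_add, hp, hq, smul_add]
    | tmul m a' =>
      rw [TameAct.hmSMul_tmul, twist_tmul, twist_tmul, Algebra.TensorProduct.lift_tmul, smul_tmul', ← smul_tmul]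
      refine congrArg (· ⊗ₜ[B] m) ?_
      simp only [AlgHom.toLinearMap_apply, map_mul, IsScalarTower.coe_toAlgHom', Algebra.smul_def, smul_eq_mul, Algebra.algebraMap_self, RingHom.id_apply]
      ring

theorem twist_one (w : M ⊗[R] A) :
    twist (B := B) ((Algebra.ofId R K).comp (Bialgebra.counitAlgHom R A)).toLinearMap w =
      (1 : K) ⊗ₜ[B] TensorProduct.rid R M ((CoalgebraStruct.counit (R := R) (A := A)).lTensor M w) := by
  induction w using TensorProduct.induction_on with
  | zero => simp
  | add p q hp hq => simp only [map_add, tmul_add, hp, hq]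
  | tmul n a =>
    rw [twist_tmul, LinearMap.lTensor_tmul, TensorProduct.rid_tmul, AlgHom.toLinearMap_apply, AlgHom.comp_apply,
      Bialgebra.counitAlgHom_apply, Algebra.ofId_apply, ← IsScalarTower.algebraMap_smul B
        (CoalgebraStruct.counit (R := R) a) n, ← smul_tmul, Algebra.smul_def, mul_one,
      ← IsScalarTower.algebraMap_apply]

variable [HopfRep.Comod R A B] [GLin.IsCoactAlg R A B] [HopfRep.Comod R A M] [TameAct.IsHopfMod R A B M]

/-- The coaction evaluated at a point of the group. -/
def psi (g : A →ₐ[R] K) (m : M) : K ⊗[B] M :=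
  twist (B := B) g.toLinearMap (HopfRep.Comod.coact (k := R) (A := A) m)

theorem psi_add (g : A →ₐ[R] K) (m n : M) : psi (B := B) g (m + n) = psi g m + psi g n := by
  simp only [psi, map_add]

theorem psi_smul (g : A →ₐ[R] K) (b : B) (m : M) :
    psi (B := B) g (b • m) = Algebra.TensorProduct.lift (IsScalarTower.toAlgHom R B K) g (fun _ _ => .all _ _)
      (GLin.coactAlgHom R A B b) • psi g m := by
  rw [psi, TameAct.IsHopfMod.coact_smul, twist_hmSMul]
  rfl

/-- The twisted map of base changes. -/
def resMap (f : K →ₐ[R] K') (g : A →ₐ[R] K')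
    (hfg : ∀ b, f (algebraMap B K b) = Algebra.TensorProduct.lift (IsScalarTower.toAlgHom R B K') g
      (fun _ _ => .all _ _) (GLin.coactAlgHom R A B b)) :
    K ⊗[B] M →+ K' ⊗[B] M :=
  TensorProduct.liftAddHom
    (AddMonoidHom.mk' (fun k => AddMonoidHom.mk' (fun m : M => f k • (psi (B := B) (K := K') g m : K' ⊗[B] M))
        fun m n => by rw [psi_add, smul_add])
      fun k l => AddMonoidHom.ext fun m => by
        show f (k + l) • psi (B := B) g m = f k • psi g m + f l • psi g m
        rw [map_add, add_smul])
    fun b k m => by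
      show f (b • k) • psi (B := B) g m = f k • psi (B := B) g (b • m)
      rw [Algebra.smul_def, map_mul, psi_smul, hfg, mul_comm, mul_smul]

theorem resMap_tmul (f : K →ₐ[R] K') (g : A →ₐ[R] K') (hfg) (k : K) (m : M) :
    resMap (M := M) f g hfg (k ⊗ₜ[B] m) = f k • psi (B := B) g m :=
  rfl

theorem resMap_smul (f : K →ₐ[R] K') (g : A →ₐ[R] K') (hfg) (k : K) (x : K ⊗[B] M) :
    resMap (M := M) f g hfg (k • x) = f k • resMap f g hfg x := by
  induction x using TensorProduct.induction_on with
  | zero => simp
  | add p q hp hq => simp only [smul_add, map_add, hp, hq]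
  | tmul l m => rw [smul_tmul', resMap_tmul, resMap_tmul, smul_eq_mul, map_mul, mul_smul]

theorem psi_one (m : M) :
    psi (B := B) (K := K) ((Algebra.ofId R K).comp (Bialgebra.counitAlgHom R A)) m = (1 : K) ⊗ₜ[B] m := by
  rw [psi, twist_one, ← LinearMap.comp_apply, HopfRep.Comod.counit_comp]
  simp

theorem resMap_id (hfg) (x : K ⊗[B] M) :
    resMap (M := M) (AlgHom.id R K) ((Algebra.ofId R K).comp (Bialgebra.counitAlgHom R A)) hfg x = x := by
  induction x using TensorProduct.induction_on with
  | zero => simp
  | add p q hp hq => rw [map_add, hp, hq]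
  | tmul k m => rw [resMap_tmul, psi_one, AlgHom.id_apply, smul_tmul', smul_eq_mul, mul_one]

theorem resMap_psi (f : K →ₐ[R] K') (g' : A →ₐ[R] K') (hfg) (g : A →ₐ[R] K) (m : M) :
    resMap (M := M) f g' hfg (psi (B := B) g m) =
      psi (B := B) ((Algebra.TensorProduct.lift g' (f.comp g) fun _ _ => .all _ _).comp (Bialgebra.comulAlgHom R A))
        m := by
  let G := Algebra.TensorProduct.lift g' (f.comp g) fun _ _ => .all _ _
  have h₁ : ∀ w : M ⊗[R] A, resMap (M := M) f g' hfg (twist (B := B) g.toLinearMap w) =
      twist (B := B) G.toLinearMap (TensorProduct.assoc R M A A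
        ((HopfRep.Comod.coact (k := R) (A := A)).rTensor A w)) := fun w => by
    induction w using TensorProduct.induction_on with
    | zero => simp
    | add p q hp hq => simp only [map_add, hp, hq]
    | tmul n a =>
      rw [twist_tmul, resMap_tmul, LinearMap.rTensor_tmul, psi]
      induction HopfRep.Comod.coact (k := R) (A := A) n using TensorProduct.induction_on with
      | zero => simp
      | add p q hp hq => simp only [map_add, smul_add, add_tmul, hp, hq]
      | tmul v c =>
        rw [twist_tmul, TensorProduct.assoc_tmul, twist_tmul, smul_tmul']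
        simp [G, mul_comm]
  have h₂ : ∀ w : M ⊗[R] A, twist (B := B) G.toLinearMap
      ((CoalgebraStruct.comul (R := R) (A := A)).lTensor M w) =
      twist (B := B) (G.comp (Bialgebra.comulAlgHom R A)).toLinearMap w := fun w => by
    induction w using TensorProduct.induction_on with
    | zero => simp
    | add p q hp hq => simp only [map_add, hp, hq]
    | tmul n a => rfl
  have hc := LinearMap.congr_fun (HopfRep.Comod.coassoc (k := R) (A := A) (V := M)) m
  simp only [LinearMap.comp_apply, LinearEquiv.coe_coe] at hc
  rw [psi, h₁, hc, h₂]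
  rfl

theorem resMap_comp (f : K →ₐ[R] K') (g : A →ₐ[R] K') (hfg) (f' : K' →ₐ[R] K'') (g' : A →ₐ[R] K'') (hfg') (hfg'')
    (x : K ⊗[B] M) :
    resMap (M := M) (f'.comp f)
      ((Algebra.TensorProduct.lift g' (f'.comp g) fun _ _ => .all _ _).comp (Bialgebra.comulAlgHom R A)) hfg'' x =
        resMap f' g' hfg' (resMap f g hfg x) := by
  induction x using TensorProduct.induction_on with
  | zero => simp
  | add p q hp hq => simp only [map_add, hp, hq]
  | tmul k m => rw [resMap_tmul, resMap_tmul, resMap_smul, resMap_psi, AlgHom.comp_apply]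

theorem resMap_one_eq (f : K →ₐ[R] K') (hf : ∀ b, f (algebraMap B K b) = algebraMap B K' b) (hfg) (x : K ⊗[B] M) :
    resMap (M := M) f ((Algebra.ofId R K').comp (Bialgebra.counitAlgHom R A)) hfg x =
      ({ f with commutes' := hf } : K →ₐ[B] K').toLinearMap.rTensor M x := by
  induction x using TensorProduct.induction_on with
  | zero => simp
  | add p q hp hq => simp only [map_add, hp, hq]
  | tmul k m =>
    rw [resMap_tmul, psi_one, LinearMap.rTensor_tmul, smul_tmul', smul_eq_mul, mul_one]
    rfl

end Groth.Agent.StModLib.QuotAff
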