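import Groth.Agent.StModLib.QuotAff.Base
import Groth.Agent.StModLib.QuotAff.Twist

/-!
# The quasi-coherent module of a relative Hopf module on the quotient stack
-/

set_option autoImplicit false
set_option linter.style.haveILetI false
set_option linter.unusedSectionVars false
set_option backward.isDefEq.respectTransparency false
set_option backward.isDefEq.respectTransparency.types false

universe u

open CategoryTheory CategoryTheory.Limits AlgebraicGeometry
open scoped MonObj
open scoped TensorProduct

noncomputable section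

namespace Groth.Agent.StModLib.QuotAff

variable {R : Type u} [CommRing R] {A B : Type u} [CommRing A] [HopfAlgebra R A] [CommRing B] [Algebra R B]
  [HopfRep.Comod R A B] [GLin.IsCoactAlg R A B]

/-- The algebra structure on the ring of a point. -/
scoped instance algB (p : Pt R B) : Algebra B p.K := p.x.toRingHom.toAlgebra

scoped instance towerB (p : Pt R B) : IsScalarTower R B p.K :=
  IsScalarTower.of_algebraMap_eq fun r => (p.x.commutes r).symm

theorem move_eq (p : Pt R B) (g : A →ₐ[R] p.K) :
    move p.x g = (Algebra.TensorProduct.lift (IsScalarTower.toAlgHom R B p.K) g fun _ _ => .all _ _).comp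
      (GLin.coactAlgHom R A B) :=
  rfl

theorem lift_one_coact {K : Type u} [CommRing K] [Algebra R K] (x : B →ₐ[R] K) (b : B) :
    Algebra.TensorProduct.lift x (one K : A →ₐ[R] K) (fun _ _ => .all _ _) (GLin.coactAlgHom R A B b) = x b := by
  have key : ∀ w : B ⊗[R] A, Algebra.TensorProduct.lift x (one K : A →ₐ[R] K) (fun _ _ => .all _ _) w =
      x (TensorProduct.rid R B ((CoalgebraStruct.counit (R := R) (A := A)).lTensor B w)) := fun w => by
    induction w using TensorProduct.induction_on with
    | zero => simp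
    | add p q hp hq => simp only [map_add, hp, hq]
    | tmul b a => simp [one, Algebra.smul_def, mul_comm]
  rw [key, GLin.coactAlgHom_apply, ← LinearMap.comp_apply, HopfRep.Comod.counit_comp]
  simp

theorem move_one {K : Type u} [CommRing K] [Algebra R K] (x : B →ₐ[R] K) : move x (one K : A →ₐ[R] K) = x :=
  AlgHom.ext fun b => lift_one_coact x b

theorem isIso_bmap_of_bijective {p q : Pt R B} (h : (obj q : (St R A B).obj) ⟶ obj p)
    (hb : Function.Bijective (rho h)) : IsIso (StMod.bmap (St R A B) h) := by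
  haveI : IsIso (CommRingCat.ofHom (rho h).toRingHom) := (ConcreteCategory.isIso_iff_bijective _).2 hb
  have e : StMod.bmap (St R A B) h = Spec.map (CommRingCat.ofHom (rho h).toRingHom) := by
    rw [← CoactBr.pt_left, rho, pt_algOf]
    rfl
  rw [e]
  exact inferInstanceAs (IsIso (Spec.map (CommRingCat.ofHom (rho h).toRingHom)))

theorem hfg_of_hom {p q : Pt R B} (h : (obj q : (St R A B).obj) ⟶ obj p) (b : B) :
    rho h (algebraMap B p.K b) = Algebra.TensorProduct.lift (IsScalarTower.toAlgHom R B q.K) (gam h)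
      (fun _ _ => .all _ _) (GLin.coactAlgHom R A B b) :=
  (AlgHom.congr_fun (rho_comp_x h) b).trans (AlgHom.congr_fun (move_eq q (gam h)) b)

variable (M : Type u) [AddCommGroup M] [Module R M] [Module B M] [IsScalarTower R B M] [HopfRep.Comod R A M]
  [TameAct.IsHopfMod R A B M]

/-- Restriction along a morphism of points. -/
def hres {p q : Pt R B} (h : (obj q : (St R A B).obj) ⟶ obj p) : p.K ⊗[B] M →+ q.K ⊗[B] M :=
  resMap (rho h) (gam h) (hfg_of_hom h)

theorem resMap_congr {K K' : Type u} [CommRing K] [Algebra R K] [Algebra B K] [IsScalarTower R B K]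
    [CommRing K'] [Algebra R K'] [Algebra B K'] [IsScalarTower R B K'] {f f' : K →ₐ[R] K'} {g g' : A →ₐ[R] K'}
    (hf : f = f') (hg : g = g') (h h') (x : K ⊗[B] M) :
    resMap (M := M) f g h x = resMap f' g' h' x := by
  subst hf; subst hg; rfl

theorem hres_id (p : Pt R B) (x : p.K ⊗[B] M) : hres M (𝟙 (obj (A := A) p)) x = x := by
  have hfg : ∀ b, AlgHom.id R p.K (algebraMap B p.K b) = Algebra.TensorProduct.lift
      (IsScalarTower.toAlgHom R B p.K) ((Algebra.ofId R p.K).comp (Bialgebra.counitAlgHom R A))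
      (fun _ _ => .all _ _) (GLin.coactAlgHom R A B b) := fun b => by
    have := hfg_of_hom (𝟙 (obj (A := A) p)) b
    rwa [rho_id, gam_id] at this
  exact (resMap_congr M (rho_id p) (gam_id p) _ hfg x).trans (resMap_id hfg x)

theorem hres_comp {p q r : Pt R B} (ψ : (obj r : (St R A B).obj) ⟶ obj q)
    (φ : (obj q : (St R A B).obj) ⟶ obj p) (x : p.K ⊗[B] M) :
    hres M (ψ ≫ φ) x = hres M ψ (hres M φ x) := by
  have hfg : ∀ b, ((rho ψ).comp (rho φ)) (algebraMap B p.K b) = Algebra.TensorProduct.lift
      (IsScalarTower.toAlgHom R B r.K) (conv (gam ψ) ((rho ψ).comp (gam φ)))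
      (fun _ _ => .all _ _) (GLin.coactAlgHom R A B b) := fun b => by
    have := hfg_of_hom (ψ ≫ φ) b
    rwa [rho_comp, gam_comp] at this
  exact (resMap_congr M (rho_comp ψ φ) (gam_comp ψ φ) _ hfg x).trans (resMap_comp _ _ _ _ _ _ hfg x)

/-- The module of functions over a point. -/
def HObj (p : Pt R B) : Type u := p.K ⊗[B] M

instance (p : Pt R B) : AddCommGroup (HObj M p) := inferInstanceAs (AddCommGroup (p.K ⊗[B] M))

instance (p : Pt R B) : Module Γ(StMod.sch (St R A B) (obj p), ⊤) (HObj M p) :=
  Module.compHom (p.K ⊗[B] M) (fE (A := A) p).symm.toRingHom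

/-- The identification with the base change. -/
def toHObj (p : Pt R B) : p.K ⊗[B] M →+ HObj M p := AddMonoidHom.id _

/-- The underlying element of the base change. -/
def ofHObj (p : Pt R B) : HObj M p →+ p.K ⊗[B] M := AddMonoidHom.id _

theorem ofHObj_smul (p : Pt R B) (r : Γ(StMod.sch (St R A B) (obj p), ⊤)) (x : HObj M p) :
    ofHObj M p (r • x) = (fE (A := A) p).symm r • ofHObj M p x :=
  rfl

theorem bijective_ofHObj (p : Pt R B) : Function.Bijective (ofHObj M p) := Function.bijective_id

theorem toHObj_smul (p : Pt R B) (k : p.K) (x : p.K ⊗[B] M) :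
    toHObj M p (k • x) = fE (A := A) p k • toHObj M p x := by
  show k • x = (fE (A := A) p).symm (fE (A := A) p k) • x
  rw [RingEquiv.symm_apply_apply]

theorem bijective_toHObj (p : Pt R B) : Function.Bijective (toHObj M p) := Function.bijective_id

/-- The restriction on the members. -/
def hObjRes {p q : Pt R B} (h : (obj q : (St R A B).obj) ⟶ obj p) : HObj M p →+ HObj M q := hres M h

theorem hObjRes_smul {p q : Pt R B} (h : (obj q : (St R A B).obj) ⟶ obj p)
    (r : Γ(StMod.sch (St R A B) (obj p), ⊤)) (x : HObj M p) :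
    hObjRes M h (r • x) = (StMod.bmap (St R A B) h).appTop r • hObjRes M h x := by
  obtain ⟨k, rfl⟩ := (fE (A := A) p).surjective r
  rw [bmap_fE]
  show hres M h ((fE (A := A) p).symm (fE (A := A) p k) • (show p.K ⊗[B] M from x)) =
    (fE (A := A) q).symm (fE (A := A) q (rho h k)) • (hres M h x : q.K ⊗[B] M)
  rw [RingEquiv.symm_apply_apply, RingEquiv.symm_apply_apply]
  exact resMap_smul _ _ _ k x

variable (A) in
/-- The system of a relative Hopf module. -/
def hSys : DSys (obj : Pt R B → (St R A B).obj) where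
  obj p := HObj M p
  res h := hObjRes M h
  res_smul h r x := hObjRes_smul M h r x
  res_id p x := hres_id M p x
  res_comp ψ φ x := hres_comp M ψ φ x

theorem isSemiBC_hres_one {p q : Pt R B} (h : (obj q : (St R A B).obj) ⟶ obj p) (hg : gam h = one q.K) :
    IsSemiBC (rho h).toRingHom (hres M h) := by
  have hf : ∀ b, rho h (algebraMap B p.K b) = algebraMap B q.K b := fun b => by
    have e := hfg_of_hom h b
    rw [hg] at e
    exact e.trans (lift_one_coact _ b)
  let f' : p.K →ₐ[B] q.K := { rho h with commutes' := hf }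
  have hfg1 : ∀ b, rho h (algebraMap B p.K b) = Algebra.TensorProduct.lift (IsScalarTower.toAlgHom R B q.K)
      ((Algebra.ofId R q.K).comp (Bialgebra.counitAlgHom R A))
      (fun _ _ => .all _ _) (GLin.coactAlgHom R A B b) := fun b => by
    have e := hfg_of_hom h b
    rwa [hg] at e
  have he : ∀ x, hres M h x = f'.toLinearMap.rTensor M x := fun x =>
    (resMap_congr M rfl hg _ hfg1 x).trans (resMap_one_eq (rho h) hf hfg1 x)
  letI := (rho h).toRingHom.toAlgebra
  letI : Module p.K (q.K ⊗[B] M) := Module.compHom _ (rho h).toRingHom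
  haveI : IsScalarTower p.K q.K (q.K ⊗[B] M) := IsScalarTower.of_algebraMap_smul fun _ _ => rfl
  haveI : IsScalarTower B p.K q.K := IsScalarTower.of_algebraMap_eq fun b => (hf b).symm
  haveI : IsScalarTower B p.K (q.K ⊗[B] M) := IsScalarTower.of_algebraMap_smul fun b x => by
    show rho h (algebraMap B p.K b) • x = b • x
    rw [hf, IsScalarTower.algebraMap_smul]
  refine ⟨fun k x => resMap_smul _ _ _ k x, ?_⟩
  let g : p.K ⊗[B] M →ₗ[p.K] q.K ⊗[B] M :=
    { toFun := hres M h, map_add' := map_add (hres M h), map_smul' := fun k x => resMap_smul _ _ _ k x }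
  refine IsBaseChange.of_comp (h := g) (TensorProduct.isBaseChange B M p.K) ?_
  have : ((g.restrictScalars B).comp (TensorProduct.mk B p.K M 1)) = TensorProduct.mk B q.K M 1 := by
    refine LinearMap.ext fun m => ?_
    show hres M h ((1 : p.K) ⊗ₜ[B] m) = (1 : q.K) ⊗ₜ[B] m
    rw [he, LinearMap.rTensor_tmul]
    exact congrArg (· ⊗ₜ[B] m) (map_one f')
  rw [this]
  exact TensorProduct.isBaseChange B M q.K

theorem isSemiBC_hres (hp : FibCat.IsFibGrpd (St R A B).p) {p q : Pt R B}
    (h : (obj q : (St R A B).obj) ⟶ obj p) : IsSemiBC (rho h).toRingHom (hres M h) := by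
  let q' : Pt R B := ⟨q.K, (rho h).comp p.x⟩
  obtain ⟨a, ha, ha'⟩ := exists_hom (A := A) (p := q') (q := q) (AlgHom.id R q.K) (gam h) (by
    show (AlgHom.id R q.K).comp ((rho h).comp p.x) = move q.x (gam h)
    rw [AlgHom.id_comp, rho_comp_x])
  let f := rho h
  obtain ⟨c, hc, hc'⟩ := exists_hom (A := A) (p := p) (q := q') f (one q.K : A →ₐ[R] q.K)
    (move_one (A := A) ((rho h).comp p.x)).symm
  have hac : a ≫ c = h := by
    refine hom_ext (by rw [rho_comp, ha, hc, AlgHom.id_comp]) ?_
    rw [gam_comp, ha', hc', ha, AlgHom.id_comp]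
    refine CoactBr.pt_injective ?_
    rw [conv, ← CoactBr.pt_mul_pt, one, ← CoactBr.one_eq_pt, mul_one]
  have hra : Function.Bijective (rho a) := by rw [ha]; exact Function.bijective_id
  haveI := isIso_bmap_of_bijective a hra
  haveI := isIso_of_isIso_bmap hp a
  have hba : Function.Bijective (hres M a) := by
    refine Function.bijective_iff_has_inverse.2 ⟨hres M (inv a), fun x => ?_, fun x => ?_⟩
    · rw [← hres_comp, IsIso.inv_hom_id, hres_id]
    · rw [← hres_comp, IsIso.hom_inv_id, hres_id]
  have h₁ : IsSemiBC (rho a).toRingHom (hres M a) :=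
    isSemiBC_of_bijective (fun k x => resMap_smul _ _ _ k x) hra hba
  have h₂ := (isSemiBC_hres_one M c hc').comp h₁
  have e₁ : (hres M a).comp (hres M c) = hres M h := AddMonoidHom.ext fun x => by
    rw [← hac]; exact (hres_comp M a c x).symm
  have e₂ : (rho a).toRingHom.comp (rho c).toRingHom = (rho h).toRingHom := by
    rw [ha, hc]; rfl
  rwa [e₁, e₂] at h₂

theorem hasBC_hSys (hp : FibCat.IsFibGrpd (St R A B).p) : (hSys (R := R) (B := B) A M).HasBC := by
  intro q p h _ _
  have h₁ : IsSemiBC (fE (A := A) p).symm.toRingHom (ofHObj M p) :=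
    isSemiBC_of_bijective (fun r x => ofHObj_smul M p r x) (fE (A := A) p).symm.bijective (bijective_ofHObj M p)
  have h₃ : IsSemiBC (fE (A := A) q).toRingHom (toHObj M q) :=
    isSemiBC_of_bijective (fun k x => toHObj_smul M q k x) (fE (A := A) q).bijective (bijective_toHObj M q)
  have h₄ := (h₁.comp (isSemiBC_hres M hp h)).comp h₃
  have e : (fE (A := A) q).toRingHom.comp ((rho h).toRingHom.comp (fE (A := A) p).symm.toRingHom) =
      (StMod.bmap (St R A B) h).appTop.hom := by
    refine RingHom.ext fun r => ?_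
    obtain ⟨k, rfl⟩ := (fE (A := A) p).surjective r
    show fE (A := A) q (rho h ((fE (A := A) p).symm (fE (A := A) p k))) = _
    rw [RingEquiv.symm_apply_apply]
    exact (bmap_fE h k).symm
  rw [e] at h₄
  exact h₄

/-- The module of a relative Hopf module. -/
theorem exists_qcoh (hp : FibCat.IsFibGrpd (St R A B).p) :
    ∃ (G : StMod.QCoh (St R A B)) (θ : ∀ p, Γ(G.obj.obj (obj p), ⊤) →+ p.K ⊗[B] M),
      (∀ p, Function.Bijective (θ p)) ∧
      (∀ p (k : p.K) (x : Γ(G.obj.obj (obj p), ⊤)), θ p (fE (A := A) p k • x) = k • θ p x) ∧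
      ∀ {q p : Pt R B} (h : (obj q : (St R A B).obj) ⟶ obj p) (x : Γ(G.obj.obj (obj p), ⊤)),
        θ q (G.obj.mapTop h x) = hres M h (θ p x) := by
  obtain ⟨G, θ, hb, hl, hn⟩ := exists_qcoh_of_denseAff hp (isDense hp) isStableAff isAffine_obj (hSys (R := R) (B := B) A M)
    (hasBC_hSys M hp)
  refine ⟨G, fun p => (ofHObj M p).comp (θ p), fun p => (bijective_ofHObj M p).comp (hb p), fun p k x => ?_,
    fun h x => hn h x⟩
  show ofHObj M p (θ p (fE (A := A) p k • x)) = k • ofHObj M p (θ p x)
  rw [hl]
  exact (ofHObj_smul M p _ _).trans (by rw [RingEquiv.symm_apply_apply])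

end Groth.Agent.StModLib.QuotAff
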