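import Groth.Agent.StModLib.QuotAff.OfHopf

/-!
# The relative Hopf module of a quasi-coherent module on the quotient stack
-/

set_option autoImplicit false
set_option linter.style.haveILetI false
set_option linter.unusedSectionVars false
set_option backward.isDefEq.respectTransparency false
set_option backward.isDefEq.respectTransparency.types false

universe u

open CategoryTheory CategoryTheory.Limits AlgebraicGeometry
open scoped MonObj
open scoped TensorProduct

noncomputable section

namespace Groth.Agent.StModLib.QuotAff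

variable {R : Type u} [CommRing R] {A B : Type u} [CommRing A] [HopfAlgebra R A] [CommRing B] [Algebra R B]
  [HopfRep.Comod R A B] [GLin.IsCoactAlg R A B]

/-- The tautological point. -/
def upt : Pt R B := ⟨B, AlgHom.id R B⟩

/-- The point over `B ⊗ C`. -/
def wpt (C : Type u) [CommRing C] [Algebra R C] : Pt R B := ⟨B ⊗[R] C, Algebra.TensorProduct.includeLeft⟩

/-- The inclusion of the second factor. -/
def inr (C : Type u) [CommRing C] [Algebra R C] : C →ₐ[R] (wpt (R := R) (B := B) C).K :=
  (Algebra.TensorProduct.includeRight : C →ₐ[R] B ⊗[R] C)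

theorem inr_apply (C : Type u) [CommRing C] [Algebra R C] (c : C) :
    inr (R := R) (B := B) C c = ((1 : B) ⊗ₜ[R] c : B ⊗[R] C) := rfl

/-- A map out of the ring of `wpt`. -/
def liftW {C K : Type u} [CommRing C] [Algebra R C] [CommRing K] [Algebra R K] (x : B →ₐ[R] K) (g : C →ₐ[R] K) :
    (wpt (R := R) (B := B) C).K →ₐ[R] K :=
  (Algebra.TensorProduct.lift x g (fun a b => Commute.all (x a) (g b)) : B ⊗[R] C →ₐ[R] K)

theorem liftW_comp_x {C K : Type u} [CommRing C] [Algebra R C] [CommRing K] [Algebra R K] (x : B →ₐ[R] K)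
    (g : C →ₐ[R] K) : (liftW x g).comp (wpt (R := R) (B := B) C).x = x :=
  Algebra.TensorProduct.lift_comp_includeLeft _ _ _

theorem liftW_comp_inr {C K : Type u} [CommRing C] [Algebra R C] [CommRing K] [Algebra R K] (x : B →ₐ[R] K)
    (g : C →ₐ[R] K) : (liftW x g).comp (inr C) = g :=
  Algebra.TensorProduct.lift_comp_includeRight x g fun a b => Commute.all (x a) (g b)

theorem conv_one_left {K : Type u} [CommRing K] [Algebra R K] (g : A →ₐ[R] K) : conv (one K) g = g :=
  CoactBr.pt_injective (by rw [conv, ← CoactBr.pt_mul_pt, one, ← CoactBr.one_eq_pt, one_mul])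

theorem conv_one_right {K : Type u} [CommRing K] [Algebra R K] (g : A →ₐ[R] K) : conv g (one K) = g :=
  CoactBr.pt_injective (by rw [conv, ← CoactBr.pt_mul_pt, one, ← CoactBr.one_eq_pt, mul_one])

theorem comp_one {K K' : Type u} [CommRing K] [Algebra R K] [CommRing K'] [Algebra R K'] (f : K →ₐ[R] K') :
    f.comp (one K : A →ₐ[R] K) = one K' := by
  refine AlgHom.ext fun a => ?_
  simp [one]

theorem exists_toU (p : Pt R B) : ∃ h : (obj p : (St R A B).obj) ⟶ obj upt, rho h = p.x ∧ gam h = one p.K :=
  exists_hom (A := A) (p := upt) (q := p) p.x (one p.K) (by rw [move_one]; exact AlgHom.comp_id _)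

/-- The tautological morphism of a point. -/
def toU (p : Pt R B) : (obj p : (St R A B).obj) ⟶ obj upt := (exists_toU p).choose

theorem rho_toU (p : Pt R B) : rho (toU (A := A) p) = p.x := (exists_toU p).choose_spec.1

theorem gam_toU (p : Pt R B) : gam (toU (A := A) p) = one p.K := (exists_toU p).choose_spec.2

theorem toU_upt : toU (A := A) (upt : Pt R B) = 𝟙 _ :=
  hom_ext (by rw [rho_toU, rho_id]; rfl) (by rw [gam_toU, gam_id])

theorem exists_act : ∃ h : (obj (wpt A) : (St R A B).obj) ⟶ obj upt,
    rho h = GLin.coactAlgHom R A B ∧ gam h = Algebra.TensorProduct.includeRight := by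
  refine exists_hom (A := A) (p := upt) (q := wpt A) (GLin.coactAlgHom R A B) Algebra.TensorProduct.includeRight ?_
  refine AlgHom.ext fun b => ?_
  show GLin.coactAlgHom R A B b = Algebra.TensorProduct.lift (Algebra.TensorProduct.includeLeft : B →ₐ[R] B ⊗[R] A)
    Algebra.TensorProduct.includeRight (fun _ _ => .all _ _) (GLin.coactAlgHom R A B b)
  rw [show Algebra.TensorProduct.lift (Algebra.TensorProduct.includeLeft : B →ₐ[R] B ⊗[R] A)
    Algebra.TensorProduct.includeRight (fun _ _ => .all _ _) = AlgHom.id R _ from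
    Algebra.TensorProduct.ext' fun b a => by simp]
  rfl

/-- The action morphism. -/
def actMor : (obj (wpt A) : (St R A B).obj) ⟶ obj upt := exists_act.choose

theorem rho_actMor : rho (actMor (R := R) (A := A) (B := B)) = (GLin.coactAlgHom R A B : (upt : Pt R B).K →ₐ[R] (wpt (R := R) (B := B) A).K) := exists_act.choose_spec.1

theorem gam_actMor : gam (actMor (R := R) (A := A) (B := B)) = inr A :=
  exists_act.choose_spec.2

variable (F : StMod.QCoh (St R A B))

/-- Sections over a point. -/
def Sec (p : Pt R B) : Type u := Γ(F.obj.obj (obj p), ⊤)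

instance (p : Pt R B) : AddCommGroup (Sec F p) := inferInstanceAs (AddCommGroup Γ(F.obj.obj (obj p), ⊤))

instance (p : Pt R B) : Module p.K (Sec F p) :=
  Module.compHom Γ(F.obj.obj (obj p), ⊤) (fE (A := A) p).toRingHom

instance secModR (p : Pt R B) : Module R (Sec F p) := Module.compHom (Sec F p) (algebraMap R p.K)

instance (p : Pt R B) : IsScalarTower R p.K (Sec F p) := IsScalarTower.of_algebraMap_smul fun _ _ => rfl

/-- The section as an element over the point. -/
def toSec (p : Pt R B) : Γ(F.obj.obj (obj p), ⊤) →+ Sec F p := AddMonoidHom.id _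

/-- The underlying section. -/
def ofSec (p : Pt R B) : Sec F p →+ Γ(F.obj.obj (obj p), ⊤) := AddMonoidHom.id _

theorem ofSec_smul (p : Pt R B) (k : p.K) (x : Sec F p) : ofSec F p (k • x) = fE (A := A) p k • ofSec F p x := rfl

/-- Restriction of sections. -/
def sres {p q : Pt R B} (h : (obj q : (St R A B).obj) ⟶ obj p) : Sec F p →+ Sec F q :=
  (toSec F q).comp ((AddMonoidHom.mk' (F.obj.mapTop h) (F.obj.mapTop_add h)).comp (ofSec F p))

theorem sres_smul {p q : Pt R B} (h : (obj q : (St R A B).obj) ⟶ obj p) (k : p.K) (x : Sec F p) :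
    sres F h (k • x) = rho h k • sres F h x := by
  show F.obj.mapTop h (fE (A := A) p k • (ofSec F p x)) = fE (A := A) q (rho h k) • F.obj.mapTop h (ofSec F p x)
  rw [StMod.Mod.mapTop_smul, bmap_fE]

theorem sres_id (p : Pt R B) (x : Sec F p) : sres F (𝟙 (obj (A := A) p)) x = x := F.obj.mapTop_id _ x

theorem sres_comp {p q r : Pt R B} (ψ : (obj r : (St R A B).obj) ⟶ obj q)
    (φ : (obj q : (St R A B).obj) ⟶ obj p) (x : Sec F p) : sres F (ψ ≫ φ) x = sres F ψ (sres F φ x) :=
  F.obj.mapTop_comp ψ φ x

theorem isSemiBC_sres {p q : Pt R B} (h : (obj q : (St R A B).obj) ⟶ obj p) :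
    IsSemiBC (rho h).toRingHom (sres F h) := by
  have h₀ := (Sys.bc_iff h).1 (hasBC_modSys F.property h (isAffine_obj p) (isAffine_obj q))
  have h₁ : IsSemiBC (fE (A := A) p).toRingHom (ofSec F p) :=
    isSemiBC_of_bijective (fun k x => ofSec_smul F p k x) (fE (A := A) p).bijective Function.bijective_id
  have h₂ : IsSemiBC (fE (A := A) q).symm.toRingHom (toSec F q) :=
    isSemiBC_of_bijective (fun r x => by
      show (r • x : Γ(F.obj.obj (obj q), ⊤)) = fE (A := A) q ((fE (A := A) q).symm r) • x
      rw [RingEquiv.apply_symm_apply]) (fE (A := A) q).symm.bijective Function.bijective_id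
  have h₄ := (h₁.comp h₀).comp h₂
  have e : (fE (A := A) q).symm.toRingHom.comp ((StMod.bmap (St R A B) h).appTop.hom.comp
      (fE (A := A) p).toRingHom) = (rho h).toRingHom := by
    refine RingHom.ext fun k => ?_
    show (fE (A := A) q).symm ((StMod.bmap (St R A B) h).appTop (fE (A := A) p k)) = rho h k
    rw [bmap_fE, RingEquiv.symm_apply_apply]
  rw [e] at h₄
  exact h₄

/-- The module over the coordinate ring. -/
def HM : Type u := Sec F upt

instance : AddCommGroup (HM F) := inferInstanceAs (AddCommGroup (Sec F upt))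

instance : Module B (HM F) := inferInstanceAs (Module (upt : Pt R B).K (Sec F upt))

instance : Module R (HM F) := inferInstanceAs (Module R (Sec F upt))

instance : IsScalarTower R B (HM F) := inferInstanceAs (IsScalarTower R (upt : Pt R B).K (Sec F upt))

/-- The tautological element. -/
def ofHM : HM F →+ Sec F upt := AddMonoidHom.id _

theorem ofHM_smul (b : B) (m : HM F) : ofHM F (b • m) = (id b : (upt : Pt R B).K) • ofHM F m := rfl

/-- Sections over a point from the tautological ones. -/
def theta (p : Pt R B) : p.K ⊗[B] HM F →+ Sec F p :=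
  TensorProduct.liftAddHom
    (AddMonoidHom.mk' (fun k => AddMonoidHom.mk' (fun m : HM F => k • sres F (toU p) (ofHM F m))
        fun m n => by rw [map_add, map_add, smul_add])
      fun k l => AddMonoidHom.ext fun m => add_smul k l _)
    fun b k m => by
      show (b • k) • sres F (toU p) (ofHM F m) = k • sres F (toU p) (ofHM F (b • m))
      rw [ofHM_smul, sres_smul, rho_toU, Algebra.smul_def, mul_comm, mul_smul]
      rfl

theorem theta_tmul (p : Pt R B) (k : p.K) (m : HM F) :
    theta F p (k ⊗ₜ[B] m) = k • sres F (toU p) (ofHM F m) :=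
  rfl

theorem theta_smul (p : Pt R B) (k : p.K) (x : p.K ⊗[B] HM F) : theta F p (k • x) = k • theta F p x := by
  induction x using TensorProduct.induction_on with
  | zero => simp
  | add a b ha hb => simp only [smul_add, map_add, ha, hb]
  | tmul l m => rw [TensorProduct.smul_tmul', theta_tmul, theta_tmul, smul_eq_mul, mul_smul]

theorem bijective_theta (p : Pt R B) : Function.Bijective (theta F p) := by
  obtain ⟨hl, hb⟩ := isSemiBC_sres F (toU p)
  letI := (rho (toU (A := A) p)).toRingHom.toAlgebra
  have halg : ∀ b : B, (rho (toU (A := A) p)).toRingHom b = algebraMap B p.K b := fun b => by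
    rw [rho_toU]; rfl
  letI : Module B (Sec F p) := Module.compHom (Sec F p) (algebraMap B p.K)
  haveI : IsScalarTower B p.K (Sec F p) := IsScalarTower.of_algebraMap_smul fun _ _ => rfl
  let f : HM F →ₗ[B] Sec F p :=
    { toFun := fun m => sres F (toU p) (ofHM F m)
      map_add' := fun m n => by rw [map_add, map_add]
      map_smul' := fun b m => (sres_smul F _ b (ofHM F m)).trans (by
        rw [rho_toU]
        rfl) }
  have hf : IsBaseChange p.K f := by
    have hb' : IsSemiBC (algebraMap B p.K) ((sres F (toU p)).comp (ofHM F)) := by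
      have := (isSemiBC_of_bijective (σ := (AlgHom.id R B).toRingHom.comp (RingHom.id B)) (B := (upt : Pt R B).K) (l := ofHM F) (fun b m => ofHM_smul F b m)
        Function.bijective_id Function.bijective_id).comp ⟨hl, hb⟩
      exact (show (rho (toU (A := A) p)).toRingHom.comp ((AlgHom.id R B).toRingHom.comp (RingHom.id B)) =
        algebraMap B p.K from RingHom.ext halg) ▸ this
    obtain ⟨hl', hb''⟩ := hb'
    exact hb''
  let L : p.K ⊗[B] HM F →ₗ[B] Sec F p :=
    { theta F p with
      map_smul' := fun b x => by
        show theta F p (b • x) = algebraMap B p.K b • theta F p x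
        rw [← IsScalarTower.algebraMap_smul p.K b x, theta_smul] }
  exact (isBaseChange_iff_bijective f L fun k m => theta_tmul F p k m).1 hf

theorem theta_upt (m : HM F) : theta F upt ((1 : (upt : Pt R B).K) ⊗ₜ[B] m) = ofHM F m := by
  rw [theta_tmul, toU_upt, sres_id]
  exact one_smul (upt : Pt R B).K _

/-- The comparison from `M ⊗ C`. -/
def wE (C : Type u) [CommRing C] [Algebra R C] : HM F ⊗[R] C →ₗ[R] Sec F (wpt C) where
  toFun t := theta F (wpt C) (twist (inr (R := R) (B := B) C).toLinearMap t)
  map_add' s t := by rw [map_add, map_add]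
  map_smul' r t := by
    rw [map_smul, ← IsScalarTower.algebraMap_smul (wpt (R := R) (B := B) C).K r, theta_smul]
    rfl

theorem bijective_twist_includeRight (M : Type u) [AddCommGroup M] [Module R M] [Module B M]
    [IsScalarTower R B M] (C : Type u) [CommRing C] [Algebra R C] :
    Function.Bijective (twist (B := B) (M := M) (inr (R := R) (B := B) C).toLinearMap) := by
  let P : B ⊗[R] C →ₗ[R] M →ₗ[R] M ⊗[R] C :=
    TensorProduct.lift (LinearMap.mk₂ R
      (fun b c => (TensorProduct.mk R (M) C).flip c ∘ₗ Algebra.lsmul R R (M) b)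
      (fun b b' c => by ext m; simp [add_smul, TensorProduct.add_tmul])
      (fun r b c => by ext m; simp [TensorProduct.smul_tmul'])
      (fun b c c' => by ext m; simp [TensorProduct.tmul_add])
      (fun r b c => by ext m; simp))
  have hP : ∀ (b : B) (c : C) (m : M), P (b ⊗ₜ c) m = (b • m) ⊗ₜ c := fun b c m => rfl
  let G : (wpt (R := R) (B := B) C).K ⊗[B] M →+ M ⊗[R] C :=
    TensorProduct.liftAddHom
      (AddMonoidHom.mk' (fun s => (P s).toAddMonoidHom) fun s t => by
        ext m
        show P (s + t) m = P s m + P t m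
        rw [map_add, LinearMap.add_apply])
      fun b s m => by
        show P (b • s) m = P s (b • m)
        change B ⊗[R] C at s
        rw [Algebra.smul_def]
        show P ((Algebra.TensorProduct.includeLeft : B →ₐ[R] B ⊗[R] C) b * s) m = P s (b • m)
        induction s using TensorProduct.induction_on with
        | zero => simp
        | add x y hx hy => simp only [mul_add, map_add, LinearMap.add_apply, hx, hy]
        | tmul b' c =>
          rw [Algebra.TensorProduct.includeLeft_apply, Algebra.TensorProduct.tmul_mul_tmul, one_mul, hP, hP,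
            mul_comm, mul_smul]
  refine Function.bijective_iff_has_inverse.2 ⟨G, fun t => ?_, fun x => ?_⟩
  · induction t using TensorProduct.induction_on with
    | zero => rw [map_zero, map_zero]
    | add x y hx hy => rw [map_add, map_add, hx, hy]
    | tmul m c =>
      show P ((1 : B) ⊗ₜ[R] c) m = m ⊗ₜ[R] c
      rw [hP, one_smul]
  · induction x using TensorProduct.induction_on with
    | zero => rw [map_zero, map_zero]
    | add x y hx hy => rw [map_add, map_add, hx, hy]
    | tmul s m =>
      show twist _ (P s m) = s ⊗ₜ[B] m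
      change B ⊗[R] C at s
      induction s using TensorProduct.induction_on with
      | zero => simp
      | add x y hx hy => rw [map_add, LinearMap.add_apply, map_add, hx, hy]; exact (TensorProduct.add_tmul _ _ _).symm
      | tmul b c =>
        rw [hP, twist_tmul, ← TensorProduct.smul_tmul, Algebra.smul_def]
        refine congrArg (· ⊗ₜ[B] m) ?_
        show (Algebra.TensorProduct.includeLeft : B →ₐ[R] B ⊗[R] C) b * ((1 : B) ⊗ₜ[R] c) = b ⊗ₜ[R] c
        simp

theorem bijective_wE (C : Type u) [CommRing C] [Algebra R C] : Function.Bijective (wE F C) :=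
  (bijective_theta F (wpt C)).comp (bijective_twist_includeRight (HM F) C)

/-- The coaction. -/
def hcoact : HM F →ₗ[R] HM F ⊗[R] A :=
  (LinearEquiv.ofBijective (wE F A) (bijective_wE F A)).symm.toLinearMap ∘ₗ
    { toFun := fun m => sres F actMor (ofHM F m)
      map_add' := fun m n => by rw [map_add, map_add]
      map_smul' := fun r m => by
        rw [← IsScalarTower.algebraMap_smul B r m, ofHM_smul, sres_smul]
        refine (congrArg (· • sres F actMor (ofHM F m)) ((rho actMor).commutes r)).trans ?_
        rfl }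

theorem wE_hcoact (m : HM F) : wE F A (hcoact F m) = sres F actMor (ofHM F m) :=
  LinearEquiv.apply_symm_apply (LinearEquiv.ofBijective (wE F A) (bijective_wE F A)) _

theorem sres_toUpt {q : Pt R B} (k : (obj q : (St R A B).obj) ⟶ obj upt) (m : HM F) :
    sres F k (ofHM F m) = theta F q (twist (gam k).toLinearMap (hcoact F m)) := by
  let f : (wpt (R := R) (B := B) A).K →ₐ[R] q.K := liftW q.x (gam k)
  obtain ⟨a, ha, ha'⟩ := exists_hom (A := A) (p := wpt A) (q := q) f (one q.K) (by
    rw [move_one]
    exact liftW_comp_x _ _)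
  have h₁ : a ≫ actMor = k := by
    refine hom_ext ?_ ?_
    · rw [rho_comp, ha, rho_actMor]
      exact (rho_comp_x k).symm.trans (AlgHom.comp_id _)
    · rw [gam_comp, ha', ha, conv_one_left, gam_actMor]
      exact liftW_comp_inr _ _
  have h₂ : a ≫ toU (wpt A) = toU q := by
    refine hom_ext ?_ ?_
    · rw [rho_comp, ha, rho_toU, rho_toU]
      exact liftW_comp_x _ _
    · rw [gam_comp, ha', ha, gam_toU, gam_toU, conv_one_left, comp_one]
  have key : ∀ t, sres F a (wE F A t) = theta F q (twist (gam k).toLinearMap t) := fun t => by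
    induction t using TensorProduct.induction_on with
    | zero => simp
    | add x y hx hy => simp only [map_add, hx, hy]
    | tmul n c =>
      show sres F a (theta F (wpt A) (twist _ (n ⊗ₜ[R] c))) = _
      rw [twist_tmul, twist_tmul, theta_tmul, theta_tmul, sres_smul, ← sres_comp, h₂, ha]
      refine congrArg (· • sres F (toU q) (ofHM F n)) ?_
      exact AlgHom.congr_fun (liftW_comp_inr q.x (gam k)) c
  conv_lhs => rw [← h₁]
  rw [sres_comp, ← wE_hcoact, key]

theorem hcoact_counit (m : HM F) :
    (CoalgebraStruct.counit (R := R) (A := A)).lTensor (HM F) (hcoact F m) = m ⊗ₜ[R] (1 : R) := by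
  apply (TensorProduct.rid R (HM F)).injective
  rw [TensorProduct.rid_tmul, one_smul]
  have h := sres_toUpt F (𝟙 (obj (upt : Pt R B))) m
  rw [sres_id, gam_id, one] at h
  erw [twist_one] at h
  rw [theta_upt] at h
  exact h.symm

theorem hcoact_coassoc (m : HM F) :
    TensorProduct.assoc R (HM F) A A ((hcoact F).rTensor A (hcoact F m)) =
      (CoalgebraStruct.comul (R := R) (A := A)).lTensor (HM F) (hcoact F m) := by
  apply (bijective_wE F (A ⊗[R] A)).1
  let q : Pt R B := wpt (A ⊗[R] A)
  let j : A ⊗[R] A →ₐ[R] q.K := inr (A ⊗[R] A)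
  let g₁ : A →ₐ[R] q.K := j.comp Algebra.TensorProduct.includeLeft
  let g₂ : A →ₐ[R] q.K := j.comp Algebra.TensorProduct.includeRight
  let β : (wpt (R := R) (B := B) A).K →ₐ[R] q.K := liftW (move q.x g₁) g₂
  obtain ⟨ψ, hψ, hψ'⟩ := exists_hom (A := A) (p := wpt A) (q := q) β g₁
    (liftW_comp_x _ _)
  have hk : gam (ψ ≫ actMor) = j.comp (Bialgebra.comulAlgHom R A) := by
    rw [gam_comp, hψ', hψ, gam_actMor]
    have : β.comp (inr A) = g₂ := liftW_comp_inr _ _
    rw [this, conv]
    refine congrArg (fun z : A ⊗[R] A →ₐ[R] q.K => z.comp (Bialgebra.comulAlgHom R A)) ?_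
    exact Algebra.TensorProduct.ext' fun a a' => by
      rw [Algebra.TensorProduct.lift_tmul]
      show j (a ⊗ₜ[R] 1) * j (1 ⊗ₜ[R] a') = j (a ⊗ₜ[R] a')
      rw [← map_mul, Algebra.TensorProduct.tmul_mul_tmul, mul_one, one_mul]
  have hk₁ : gam (ψ ≫ toU (wpt A)) = g₁ := by
    rw [gam_comp, hψ', hψ, gam_toU, comp_one, conv_one_right]
  have hR : ∀ t : HM F ⊗[R] A, theta F q (twist (j.comp (Bialgebra.comulAlgHom R A)).toLinearMap t) =
      wE F (A ⊗[R] A) ((CoalgebraStruct.comul (R := R) (A := A)).lTensor (HM F) t) := fun t => by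
    induction t using TensorProduct.induction_on with
    | zero => simp
    | add x y hx hy => simp only [map_add, hx, hy]
    | tmul n c => rfl
  have hL : ∀ t : HM F ⊗[R] A, sres F ψ (wE F A t) =
      wE F (A ⊗[R] A) (TensorProduct.assoc R (HM F) A A ((hcoact F).rTensor A t)) := fun t => by
    induction t using TensorProduct.induction_on with
    | zero => simp
    | add x y hx hy => simp only [map_add, hx, hy]
    | tmul n c =>
      show sres F ψ (theta F (wpt A) (twist _ (n ⊗ₜ[R] c))) = _
      rw [twist_tmul, theta_tmul, sres_smul, ← sres_comp, sres_toUpt, hk₁, hψ, LinearMap.rTensor_tmul]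
      rw [show β ((inr (R := R) (B := B) A).toLinearMap c) = g₂ c from
        AlgHom.congr_fun (liftW_comp_inr _ _) c, ← theta_smul]
      show _ = theta F q (twist j.toLinearMap _)
      refine congrArg (theta F q) ?_
      induction hcoact F n using TensorProduct.induction_on with
      | zero => simp
      | add x y hx hy => simp only [map_add, smul_add, TensorProduct.add_tmul, hx, hy]
      | tmul v d =>
        rw [TensorProduct.assoc_tmul, twist_tmul, twist_tmul, TensorProduct.smul_tmul']
        refine congrArg (· ⊗ₜ[B] v) ?_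
        show j (1 ⊗ₜ[R] c) * j (d ⊗ₜ[R] 1) = j (d ⊗ₜ[R] c)
        rw [← map_mul, Algebra.TensorProduct.tmul_mul_tmul, mul_one, one_mul]
  rw [← hL, wE_hcoact, ← sres_comp, ← hR, sres_toUpt, hk]

instance hmComod : HopfRep.Comod R A (HM F) where
  coact := hcoact F
  coassoc := LinearMap.ext fun m => hcoact_coassoc F m
  counit_comp := LinearMap.ext fun m => hcoact_counit F m

theorem coact_eq : HopfRep.Comod.coact (k := R) (A := A) (V := HM F) = hcoact F := rfl

instance hmHopf : TameAct.IsHopfMod R A B (HM F) := by
  refine ⟨fun b m => (bijective_wE F A).1 ?_⟩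
  show wE F A (hcoact F (b • m)) = wE F A _
  have hid : Algebra.TensorProduct.lift (IsScalarTower.toAlgHom R B (wpt (R := R) (B := B) A).K)
      (inr (R := R) (B := B) A) (fun _ _ => .all _ _) =
      (AlgHom.id R (B ⊗[R] A) : B ⊗[R] A →ₐ[R] (wpt (R := R) (B := B) A).K) :=
    Algebra.TensorProduct.ext' fun b a => by
    rw [Algebra.TensorProduct.lift_tmul]
    show (b ⊗ₜ[R] (1 : A)) * ((1 : B) ⊗ₜ[R] a) = b ⊗ₜ[R] a
    simp
  rw [wE_hcoact, ofHM_smul, sres_smul, rho_actMor, ← wE_hcoact]
  show _ = theta F (wpt A) (twist _ _)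
  rw [twist_hmSMul, hid, theta_smul]
  rfl

theorem sres_theta {p q : Pt R B} (h : (obj q : (St R A B).obj) ⟶ obj p) (x : p.K ⊗[B] HM F) :
    sres F h (theta F p x) = theta F q (hres (HM F) h x) := by
  induction x using TensorProduct.induction_on with
  | zero => simp
  | add a b ha hb => simp only [map_add, ha, hb]
  | tmul k m =>
    rw [theta_tmul, sres_smul, ← sres_comp, sres_toUpt, gam_comp, gam_toU, comp_one, conv_one_right, ← theta_smul]
    rfl

/-- The map of relative Hopf modules of a morphism. -/
def hmap {F G : StMod.QCoh (St R A B)} (a : F ⟶ G) : HM F →ₗ[B] HM G where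
  toFun m := (a.hom.app (obj upt)).app ⊤ m
  map_add' m n := map_add _ _ _
  map_smul' b m := Scheme.Modules.Hom.app_smul (a.hom.app (obj upt)) (fE (A := A) (upt : Pt R B) b) m

theorem hmap_surjective {F G : StMod.QCoh (St R A B)} (a : F ⟶ G) (ha : StMod.Mod.IsSurj a.hom) :
    Function.Surjective (hmap a) :=
  ha _ (isAffine_obj _)

theorem theta_hmap {F G : StMod.QCoh (St R A B)} (a : F ⟶ G) (p : Pt R B) (x : p.K ⊗[B] HM F) :
    theta G p ((hmap a).lTensor p.K x) = toSec G p ((a.hom.app (obj p)).app ⊤ (ofSec F p (theta F p x))) := by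
  induction x using TensorProduct.induction_on with
  | zero => simp
  | add s t hs ht => simp only [map_add, hs, ht]
  | tmul k m =>
    rw [LinearMap.lTensor_tmul, theta_tmul, theta_tmul, ofSec_smul]
    refine Eq.trans ?_ (Scheme.Modules.Hom.app_smul (a.hom.app (obj p)) _ _).symm
    exact congrArg (fun v : Sec G p => k • v) (StMod.Mod.mapTop_app a.hom (toU p) m)

theorem isComodHom_hmap {F G : StMod.QCoh (St R A B)} (a : F ⟶ G) :
    Hoch.IsComodHom A ((hmap a).restrictScalars R) := by
  refine LinearMap.ext fun m => (bijective_wE G A).1 ?_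
  show wE G A (hcoact G (hmap a m)) = wE G A (((hmap a).restrictScalars R).rTensor A (hcoact F m))
  have key : ∀ t, wE G A (((hmap a).restrictScalars R).rTensor A t) =
      toSec G _ ((a.hom.app (obj (wpt A))).app ⊤ (ofSec F _ (wE F A t))) := fun t => by
    induction t using TensorProduct.induction_on with
    | zero => simp
    | add x y hx hy => simp only [map_add, hx, hy]
    | tmul n c => exact theta_hmap a (wpt A) (inr (R := R) (B := B) A c ⊗ₜ[B] n)
  rw [key, wE_hcoact, wE_hcoact]
  exact StMod.Mod.mapTop_app a.hom actMor m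

end Groth.Agent.StModLib.QuotAff
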